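import Mathlib

/-!
`E = 3³` acting on `𝔽₂⁸` together with three involutions inverting the coordinates.
-/

set_option autoImplicit false

namespace Cfsg.Agent.O8

namespace LA

variable {R V : Type*} [CommRing R] [AddCommGroup V] [Module R V]

/-- The vectors fixed by `r`. -/
def Fx (V : Type*) [AddCommGroup V] [Module R V] (r : R) : AddSubgroup V where
  carrier := {v | r • v = v}
  zero_mem' := smul_zero r
  add_mem' := fun {a b} ha hb => by
    change r • (a + b) = a + b
    rw [smul_add, show r • a = a from ha, show r • b = b from hb]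
  neg_mem' := fun {a} ha => by
    change r • (-a) = -a
    rw [smul_neg, show r • a = a from ha]

theorem mem_Fx {r : R} {v : V} : v ∈ Fx V r ↔ r • v = v := Iff.rfl

theorem prod_le [Finite V] {ι : Type} [Fintype ι] [DecidableEq ι] (ε : ι → R)
    (h : ∀ i j, i ≠ j → ε i * ε j = 0) : ∏ i, Nat.card (Fx V (ε i)) ≤ Nat.card V := by
  rw [← Nat.card_pi]
  refine Nat.card_le_card_of_injective (fun x : ∀ i, Fx V (ε i) => ∑ i, (x i : V)) ?_
  have key : ∀ (x : ∀ i, Fx V (ε i)) j, ε j • ∑ i, (x i : V) = x j := by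
    intro x j
    rw [Finset.smul_sum, Finset.sum_eq_single j]
    · exact (x j).2
    · intro i _ hij
      rw [← show ε i • (x i : V) = x i from (x i).2, smul_smul, h j i (Ne.symm hij), zero_smul]
    · simp
  intro x y hxy
  funext j
  apply Subtype.ext
  rw [← key x j, ← key y j]
  exact congrArg _ hxy

theorem two_le [Finite V] {B : AddSubgroup V} {b : V} (hb : b ∈ B) (h0 : b ≠ 0) : 2 ≤ Nat.card B := by
  have : Nontrivial B := ⟨⟨⟨b, hb⟩, 0, fun h => h0 (congrArg Subtype.val h)⟩⟩
  exact Finite.one_lt_card_iff_nontrivial.mpr this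

theorem four_le [Finite V] (h2 : ∀ v : V, v + v = 0) {B : AddSubgroup V} {b c : V} (hb : b ∈ B) (hc : c ∈ B)
    (b0 : b ≠ 0) (c0 : c ≠ 0) (bc : b ≠ c) : 4 ≤ Nat.card B := by
  classical
  have h1 : b + c ≠ 0 := fun h => bc (by
    have := h2 c
    rw [← h] at this
    exact (add_right_cancel this).symm)
  have h3 : b + c ≠ b := fun h => c0 (by simpa using h)
  have h4 : b + c ≠ c := fun h => b0 (by simpa using h)
  have hcard : ({0, b, c, b + c} : Finset V).card = 4 := by
    rw [Finset.card_insert_of_notMem, Finset.card_insert_of_notMem, Finset.card_pair h4.symm]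
    · simp [bc, h3.symm]
    · simp [b0.symm, c0.symm, h1.symm]
  have hsub : (({0, b, c, b + c} : Finset V) : Set V) ⊆ (B : Set V) := by
    intro v hv
    simp only [Finset.coe_insert, Finset.coe_singleton, Set.mem_insert_iff, Set.mem_singleton_iff] at hv
    rcases hv with rfl | rfl | rfl | rfl
    · exact B.zero_mem
    · exact hb
    · exact hc
    · exact B.add_mem hb hc
  have := Set.ncard_le_ncard hsub (Set.toFinite _)
  rw [Set.ncard_coe_finset, hcard] at this
  exact this

theorem dbl [Finite V] (W : AddSubgroup V) (f : V →+ V) (h1 : 4 ≤ Nat.card ↥(W ⊓ f.ker)) (h2 : 4 ≤ Nat.card (W.map f)) :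
    16 ≤ Nat.card W := by
  have h := AddSubgroup.card_eq_card_quotient_mul_card_addSubgroup (f.comp W.subtype).ker
  rw [Nat.card_congr (QuotientAddGroup.quotientKerEquivRange (f.comp W.subtype)).toEquiv] at h
  have e1 : (f.comp W.subtype).range = W.map f := by
    rw [AddMonoidHom.range_comp, AddSubgroup.range_subtype]
  have e2 : Nat.card (f.comp W.subtype).ker = Nat.card ↥(W ⊓ f.ker) := by
    rw [← AddMonoidHom.comap_ker, AddSubgroup.comap_subtype, inf_comm, ← AddSubgroup.addSubgroupOf_map_subtype,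
      AddSubgroup.card_map_of_injective W.subtype_injective]
  rw [e1, e2] at h
  rw [h]
  exact Nat.mul_le_mul h2 h1

/-- `s r = r' s`. -/
def Tw (s : V →+ V) (r r' : R) : Prop := ∀ v, s (r • v) = r' • s v

theorem Tw.one (s : V →+ V) : Tw s (1 : R) 1 := fun v => by rw [one_smul, one_smul]

theorem Tw.add {s : V →+ V} {a a' b b' : R} (h : Tw s a a') (k : Tw s b b') : Tw s (a + b) (a' + b') := fun v => by
  rw [add_smul, add_smul, map_add, h, k]

theorem Tw.mul {s : V →+ V} {a a' b b' : R} (h : Tw s a a') (k : Tw s b b') : Tw s (a * b) (a' * b') := fun v => by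
  rw [mul_smul, mul_smul, h, k]

/-- `1 + x + x²`. -/
def pp (x : R) : R := 1 + x + x * x

/-- `x + x²`. -/
def qq (x : R) : R := x + x * x

theorem Tw.pp {s : V →+ V} {a a' : R} (h : Tw s a a') : Tw s (pp a) (pp a') := ((Tw.one s).add h).add (h.mul h)

theorem Tw.qq {s : V →+ V} {a a' : R} (h : Tw s a a') : Tw s (qq a) (qq a') := h.add (h.mul h)

theorem self_add (h2 : (2 : R) = 0) (v : V) : v + v = 0 := by rw [← two_smul R v, h2, zero_smul]

/-- A nonzero vector killed by `1 + x + x²` spans four vectors. -/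
theorem four_of [Finite V] (h2 : (2 : R) = 0) {x : R} (hx : x ^ 3 = 1) {B : AddSubgroup V} {b : V} (hb : b ∈ B) (hc : x • b ∈ B)
    (b0 : b ≠ 0) (hp : pp x • b = 0) : 4 ≤ Nat.card B := by
  refine four_le (self_add h2) hb hc b0 (fun h => b0 ?_) (fun h => b0 ?_)
  · rw [← one_smul R b, ← hx, pow_succ, mul_smul, h, smul_zero]
  · rw [pp, add_smul, add_smul, mul_smul, one_smul, ← h, ← h, self_add h2, zero_add] at hp
    exact hp

theorem four_Fx [Finite V] (h2 : (2 : R) = 0) {x ε : R} (hx : x ^ 3 = 1) (hε : ε * ε = ε) (hp : pp x * ε = 0) {a : V}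
    (h0 : ε • a ≠ 0) : 4 ≤ Nat.card (Fx V ε) :=
  four_of h2 hx (by rw [mem_Fx, smul_smul, hε]) (by rw [mem_Fx, smul_comm, smul_smul ε ε, hε]) h0 (by rw [smul_smul, hp, zero_smul])

theorem two_Fx [Finite V] {ε : R} (hε : ε * ε = ε) {a : V} (h0 : ε • a ≠ 0) : 2 ≤ Nat.card (Fx V ε) :=
  two_le (by rw [mem_Fx, smul_smul, hε]) h0

/-- Doubling: `s` commutes with `ε` and `x`, fixes `a` and `a ∈ (1 + s) V`. -/
theorem sixteen_Fx [Finite V] (h2 : (2 : R) = 0) {x ε : R} (hx : x ^ 3 = 1) (hε : ε * ε = ε) (hp : pp x * ε = 0) {s : V →+ V}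
    (sx : Tw s x x) (sε : Tw s ε ε) {a v : V} (fix : s a = a) (im : a = v + s v) (h0 : ε • a ≠ 0) : 16 ≤ Nat.card (Fx V ε) := by
  have m1 : ∀ w : V, ε • w ∈ Fx V ε := fun w => by rw [mem_Fx, smul_smul, hε]
  have m2 : ∀ w : V, x • ε • w ∈ Fx V ε := fun w => by rw [mem_Fx, smul_comm, smul_smul ε ε, hε]
  have hp' : pp x • ε • a = 0 := by rw [smul_smul, hp, zero_smul]
  refine dbl _ (AddMonoidHom.id V + s) (four_of h2 hx (b := ε • a) ⟨m1 a, ?_⟩ ⟨m2 a, ?_⟩ h0 hp')
    (four_of h2 hx (b := ε • a) ⟨ε • v, m1 v, ?_⟩ ⟨x • ε • v, m2 v, ?_⟩ h0 hp')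
  · change ε • a + s (ε • a) = 0
    rw [sε, fix, self_add h2]
  · change x • ε • a + s (x • ε • a) = 0
    rw [sx, sε, fix, self_add h2]
  · change ε • v + s (ε • v) = _
    rw [sε, ← smul_add, ← im]
  · change x • ε • v + s (x • ε • v) = _
    rw [sx, sε, ← smul_add, ← smul_add, ← im]

theorem qq_ne (h2 : (2 : R) = 0) {x : R} (hx : x ^ 3 = 1) {a : V} (h : x • a ≠ a) : qq x • a ≠ 0 := by
  intro h0
  have e2 : x * x * qq x = 1 + x := by unfold qq; grind
  apply h
  have : (1 + x) • a = 0 := by rw [← e2, mul_smul, h0, smul_zero]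
  rw [add_smul, one_smul] at this
  have h3 := self_add h2 a
  rw [← this] at h3
  exact (add_left_cancel h3).symm

theorem Tw.ne {s : V →+ V} (s2 : ∀ v, s (s v) = v) {r r' : R} (h : Tw s r r') {a : V} (fix : s a = a) (h0 : r • a ≠ 0) :
    r' • a ≠ 0 := fun h1 => h0 (by rw [← s2 (r • a), h, fix, h1, map_zero])

/-- No component with all three elements acting without fixed points. -/
theorem case3 [Finite V] (hc : Nat.card V = 256) (h2 : (2 : R) = 0) {x y z : R} (hx : x ^ 3 = 1) (hy : y ^ 3 = 1) (hz : z ^ 3 = 1)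
    {t u : V →+ V} (t2 : ∀ v, t (t v) = v) (u2 : ∀ v, u (u v) = v) (tx : Tw t x x) (ty : Tw t y (y * y)) (tz : Tw t z z)
    (ux : Tw u x x) (uy : Tw u y y) (uz : Tw u z (z * z)) {a : V} (ft : t a = a) (fu : u a = a) (h0 : pp x • a ≠ 0) :
    (qq x * qq y * qq z) • a = 0 := by
  by_contra hn
  have y4 : y * y * (y * y) = y := by grind
  have z4 : z * z * (z * z) = z := by grind
  have ty' : Tw t (y * y) y := by have := ty.mul ty; rwa [y4] at this
  have uz' : Tw u (z * z) z := by have := uz.mul uz; rwa [z4] at this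
  let ε : R → R → R := fun y z => qq x * pp (x * y) * pp (x * z)
  have f1 : ∀ {y y' z : R}, Tw t y y' → Tw t z z → ε y z • a ≠ 0 → ε y' z • a ≠ 0 := fun h k =>
    Tw.ne t2 ((tx.qq.mul (tx.mul h).pp).mul (tx.mul k).pp) ft
  have f2 : ∀ {y z z' : R}, Tw u y y → Tw u z z' → ε y z • a ≠ 0 → ε y z' • a ≠ 0 := fun h k =>
    Tw.ne u2 ((ux.qq.mul (ux.mul h).pp).mul (ux.mul k).pp) fu
  have hs : qq x * qq y * qq z = ε y z + ε (y * y) z + ε y (z * z) + ε (y * y) (z * z) := by
    simp only [ε]; unfold pp qq; grind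
  have a1 : ε y z • a ≠ 0 := by
    intro h1
    have h2' : ε (y * y) z • a = 0 := by
      by_contra h; exact f1 ty' tz h h1
    have h3 : ε y (z * z) • a = 0 := by
      by_contra h; exact f2 uy uz' h h1
    have h4 : ε (y * y) (z * z) • a = 0 := by
      by_contra h; exact f1 ty' (tz.mul tz) h h3
    apply hn
    rw [hs, add_smul, add_smul, add_smul, h1, h2', h3, h4]
    simp
  have a2 := f1 ty tz a1
  have a3 := f2 uy uz a1
  have a4 := f1 ty (tz.mul tz) a3
  have b : ∀ {y z : R}, y ^ 3 = 1 → z ^ 3 = 1 → ε y z • a ≠ 0 → 4 ≤ Nat.card (Fx V (ε y z)) := fun {y z} hy hz h =>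
    four_Fx h2 hx (by simp only [ε]; unfold pp qq; grind) (by simp only [ε]; unfold pp qq; grind) h
  have hy' : (y * y) ^ 3 = 1 := by grind
  have hz' : (z * z) ^ 3 = 1 := by grind
  have b0 := two_Fx (show pp x * pp x = pp x by unfold pp; grind) h0
  have b1 := b hy hz a1
  have b2 := b hy' hz a2
  have b3 := b hy hz' a3
  have b4 := b hy' hz' a4
  have o1 : ∀ z z' : R, ε y z * ε (y * y) z' = 0 := fun z z' => by
    have : qq x * pp (x * y) * pp (x * (y * y)) = 0 := by unfold pp qq; grind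
    simp only [ε]
    linear_combination (qq x * pp (x * z) * pp (x * z')) * this
  have o2 : ∀ y y' : R, ε y z * ε y' (z * z) = 0 := fun y y' => by
    have : qq x * pp (x * z) * pp (x * (z * z)) = 0 := by unfold pp qq; grind
    simp only [ε]
    linear_combination (qq x * pp (x * y) * pp (x * y')) * this
  have o0 : ∀ y z : R, pp x * ε y z = 0 := fun y z => by
    have : pp x * qq x = 0 := by unfold pp qq; grind
    simp only [ε]
    linear_combination (pp (x * y) * pp (x * z)) * this
  have key := prod_le (V := V) ![pp x, ε y z, ε (y * y) z, ε y (z * z), ε (y * y) (z * z)] (by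
    intro i j hij
    fin_cases i <;> fin_cases j <;>
      first
        | exact absurd rfl hij
        | exact o0 _ _
        | exact (mul_comm _ _).trans (o0 _ _)
        | exact o1 _ _
        | exact (mul_comm _ _).trans (o1 _ _)
        | exact o2 _ _
        | exact (mul_comm _ _).trans (o2 _ _))
  rw [Fin.prod_univ_five, hc] at key
  have := Nat.mul_le_mul (Nat.mul_le_mul (Nat.mul_le_mul (Nat.mul_le_mul b0 b1) b2) b3) b4
  exact absurd (this.trans key) (by norm_num)

/-- No component with exactly two elements acting without fixed points. -/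
theorem case2 [Finite V] (hc : Nat.card V = 256) (h2 : (2 : R) = 0) {x y z : R} (hx : x ^ 3 = 1) (hy : y ^ 3 = 1) (hz : z ^ 3 = 1)
    {s u : V →+ V} (u2 : ∀ v, u (u v) = v) (sy : Tw s y y) (sz : Tw s z z) (sx : Tw s x (x * x))
    (ux : Tw u x x) (uy : Tw u y y) (uz : Tw u z (z * z)) {a v : V} (fs : s a = a) (fu : u a = a) (im : a = v + s v)
    (h0 : x • a ≠ a) : (pp x * qq y * qq z) • a = 0 := by
  by_contra hn
  have z4 : z * z * (z * z) = z := by grind
  have uz' : Tw u (z * z) z := by have := uz.mul uz; rwa [z4] at this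
  have sp : Tw s (pp x) (pp x) := by
    have := sx.pp
    rwa [show pp (x * x) = pp x by unfold pp; grind] at this
  let ε : R → R := fun z => pp x * qq y * pp (y * z)
  have f2 : ∀ {z z' : R}, Tw u z z' → ε z • a ≠ 0 → ε z' • a ≠ 0 := fun k =>
    Tw.ne u2 ((ux.pp.mul uy.qq).mul (uy.mul k).pp) fu
  have hs : pp x * qq y * qq z = ε z + ε (z * z) := by simp only [ε]; unfold pp qq; grind
  have a1 : ε z • a ≠ 0 := by
    intro h1
    have h3 : ε (z * z) • a = 0 := by
      by_contra h; exact f2 uz' h h1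
    apply hn
    rw [hs, add_smul, h1, h3, add_zero]
  have a2 := f2 uz a1
  have b : ∀ {z : R}, z ^ 3 = 1 → Tw s z z → ε z • a ≠ 0 → 16 ≤ Nat.card (Fx V (ε z)) := fun {z} hz k h =>
    sixteen_Fx h2 hy (by simp only [ε]; unfold pp qq; grind) (by simp only [ε]; unfold pp qq; grind) sy
      ((sp.mul sy.qq).mul (sy.mul k).pp) fs im h
  have b0 := two_Fx (show qq x * qq x = qq x by unfold qq; grind) (qq_ne h2 hx h0)
  have b1 := b hz sz a1
  have b2 := b (by grind) (sz.mul sz) a2
  have o1 : ε z * ε (z * z) = 0 := by simp only [ε]; unfold pp qq; grind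
  have o0 : ∀ z : R, qq x * ε z = 0 := fun z => by
    have : qq x * pp x = 0 := by unfold pp qq; grind
    simp only [ε]
    linear_combination (qq y * pp (y * z)) * this
  have key := prod_le (V := V) ![qq x, ε z, ε (z * z)] (by
    intro i j hij
    fin_cases i <;> fin_cases j <;>
      first
        | exact absurd rfl hij
        | exact o0 _
        | exact (mul_comm _ _).trans (o0 _)
        | exact o1
        | exact (mul_comm _ _).trans o1)
  rw [Fin.prod_univ_three, hc] at key
  have := Nat.mul_le_mul (Nat.mul_le_mul b0 b1) b2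
  exact absurd (this.trans key) (by norm_num)

theorem core [Finite V] (hc : Nat.card V = 256) (h2 : (2 : R) = 0) {x y z : R} (hx : x ^ 3 = 1) (hy : y ^ 3 = 1) (hz : z ^ 3 = 1)
    {s t u : V →+ V} (s2 : ∀ v, s (s v) = v) (t2 : ∀ v, t (t v) = v) (u2 : ∀ v, u (u v) = v)
    (sx : Tw s x (x * x)) (sy : Tw s y y) (sz : Tw s z z) (tx : Tw t x x) (ty : Tw t y (y * y)) (tz : Tw t z z)
    (ux : Tw u x x) (uy : Tw u y y) (uz : Tw u z (z * z)) {a v1 v2 v3 : V} (fs : s a = a) (ft : t a = a) (fu : u a = a)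
    (i1 : a = v1 + s v1) (i2 : a = v2 + t v2) (i3 : a = v3 + u v3) (n1 : x • a ≠ a) (n2 : y • a ≠ a) (n3 : z • a ≠ a) :
    pp x • a = 0 := by
  by_contra h0
  have c3 := case3 hc h2 hx hy hz t2 u2 tx ty tz ux uy uz ft fu h0
  have cx := case2 hc h2 hx hy hz u2 sy sz sx ux uy uz fs fu i1 n1
  have cy := case2 hc h2 hy hx hz u2 tx tz ty uy ux uz ft fu i2 n2
  have cz := case2 hc h2 hz hx hy t2 ux uy uz tz tx ty fu ft i3 n3
  have one : ∀ {x y z : R} {t : V →+ V} {v : V}, x ^ 3 = 1 → y ^ 3 = 1 → z ^ 3 = 1 → Tw t x x → Tw t y (y * y) → Tw t z z → t a = a →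
      a = v + t v → x • a ≠ a → (qq x * qq y * qq z) • a = 0 → (pp y * qq x * qq z) • a = 0 → (pp z * qq x * qq y) • a = 0 →
      16 ≤ Nat.card (Fx V (qq x * pp y * pp z)) := by
    intro x y z t v hx hy hz tx ty tz ft i2 n1 d1 d2 d3
    have tp : Tw t (pp y) (pp y) := by
      have := ty.pp
      rwa [show pp (y * y) = pp y by unfold pp; grind] at this
    refine sixteen_Fx h2 hx (by unfold pp qq; grind) (by unfold pp qq; grind) tx ((tx.qq.mul tp).mul tz.pp) ft i2 fun h => ?_
    apply qq_ne h2 hx n1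
    rw [show qq x = qq x * pp y * pp z + qq x * qq y * qq z + pp y * qq x * qq z + pp z * qq x * qq y by unfold pp qq; grind,
      add_smul, add_smul, add_smul, h, d1, d2, d3]
    simp
  have b1 := one hx hy hz tx ty tz ft i2 n1 c3 cy cz
  have b2 := one hy hx hz sy sx sz fs i1 n2 (by rw [← c3]; congr 1; ring) cx (by rw [← cz]; congr 1; ring)
  have b3 := one hz hx hy sz sx sy fs i1 n3 (by rw [← c3]; congr 1; ring) (by rw [← cx]; congr 1; ring)
    (by rw [← cy]; congr 1; ring)
  have o : ∀ {x : R}, x ^ 3 = 1 → pp x * qq x = 0 := fun hx => by unfold pp qq; grind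
  have key := prod_le (V := V) ![qq x * pp y * pp z, qq y * pp x * pp z, qq z * pp x * pp y] (by
    intro i j hij
    fin_cases i <;> fin_cases j <;>
      first
        | exact absurd rfl hij
        | (have ox := o hx; have oy := o hy; have oz := o hz; simp; grind))
  rw [Fin.prod_univ_three, hc] at key
  have := Nat.mul_le_mul (Nat.mul_le_mul b1 b2) b3
  exact absurd (this.trans key) (by norm_num)

end LA

open LA

open scoped IsMulCommutative in
/-- The vector `a` has no component in the fixed space of `e i`. -/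
theorem p_eq_zero {V : Type*} [AddCommGroup V] [Module (ZMod 2) V] (hc : Nat.card V = 256)
    (s e : Fin 3 → Module.End (ZMod 2) V) (e3 : ∀ i, e i ^ 3 = 1) (ee : ∀ i j, Commute (e i) (e j))
    (s2 : ∀ i, s i * s i = 1) (se : ∀ i j, i ≠ j → Commute (s i) (e j)) (inv : ∀ i, s i * e i = e i ^ 2 * s i) {a : V}
    (fix : ∀ i, s i a = a) (im : ∀ i, ∃ v, a = v + s i v)
    (free : ∀ k : Fin 3 → ZMod 3, (e 0 ^ (k 0).val * e 1 ^ (k 1).val * e 2 ^ (k 2).val) a = a → k = 0) (i : Fin 3) :
    a + e i a + e i (e i a) = 0 := by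
  have : Finite V := Nat.finite_of_card_ne_zero (by rw [hc]; norm_num)
  let R := Algebra.adjoin (ZMod 2) (Set.range e)
  have : IsMulCommutative R := Algebra.isMulCommutative_adjoin _ (by rintro _ ⟨i, rfl⟩ _ ⟨j, rfl⟩; exact ee i j)
  let x : Fin 3 → R := fun i => ⟨e i, Algebra.subset_adjoin ⟨i, rfl⟩⟩
  have hx : ∀ i, x i ^ 3 = 1 := fun i => Subtype.ext (e3 i)
  have h2 : (2 : R) = 0 := by
    rw [show (2 : R) = algebraMap (ZMod 2) R 2 from (map_ofNat _ 2).symm, show (2 : ZMod 2) = 0 from rfl, map_zero]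
  have S2 : ∀ i v, (s i).toAddMonoidHom ((s i).toAddMonoidHom v) = v := fun i v => congrArg (fun f : Module.End (ZMod 2) V => f v) (s2 i)
  have T1 : ∀ i j, i ≠ j → Tw (s i).toAddMonoidHom (x j) (x j) := fun i j hij v =>
    congrArg (fun f : Module.End (ZMod 2) V => f v) (se i j hij)
  have T2 : ∀ i, Tw (s i).toAddMonoidHom (x i) (x i * x i) := fun i v => by
    have := congrArg (fun f : Module.End (ZMod 2) V => f v) (inv i)
    rw [pow_two] at this
    exact this
  have N : ∀ i, x i • a ≠ a := by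
    intro i h
    have h' : e i a = a := h
    have := free (Pi.single i 1) (by fin_cases i <;> simpa [ZMod.val_one] using h')
    exact absurd (congrFun this i) (by simp)
  choose v hv using im
  have main : ∀ i j k : Fin 3, i ≠ j → i ≠ k → j ≠ k → pp (x i) • a = 0 := fun i j k ij ik jk =>
    core hc h2 (hx i) (hx j) (hx k) (S2 i) (S2 j) (S2 k) (T2 i) (T1 i j ij) (T1 i k ik) (T1 j i ij.symm) (T2 j) (T1 j k jk)
      (T1 k i ik.symm) (T1 k j jk.symm) (T2 k) (fix i) (fix j) (fix k) (hv i) (hv j) (hv k) (N i) (N j) (N k)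
  have : pp (x i) • a = 0 := by
    fin_cases i
    · exact main 0 1 2 (by decide) (by decide) (by decide)
    · exact main 1 0 2 (by decide) (by decide) (by decide)
    · exact main 2 0 1 (by decide) (by decide) (by decide)
  rw [pp, add_smul, add_smul, mul_smul, one_smul] at this
  exact this

end Cfsg.Agent.O8
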