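import Mathlib
import Cfsg.Agent.LX.Co
import Cfsg.Agent.LX.W
import Cfsg.Agent.Inv.FzBasic

/-!
Involutions with centraliser `2^(1+8) . (S₃ × S₃ × S₃)` up to odd index: definitions
(see `stubs/Cfsg/Agent/O8/PLAN.md`).
-/

set_option autoImplicit false

namespace Cfsg.Agent.O8

open Cfsg.Agent.Spor Cfsg.Agent.LX Subgroup

variable {G : Type*} [Group G]

/-- `Q ⟨σ₀, σ₁, σ₂⟩`. -/
def TT (z : G) (σ : Fin 3 → G) : Subgroup G := QQ z ⊔ closure (Set.range σ)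

/-- `Q ⟨σᵢ, eᵢ⟩`. -/
def CC (z : G) (σ e : Fin 3 → G) : Subgroup G := TT z σ ⊔ closure (Set.range e)

/-- The hypothesis: `C(z) / Q` has a normal subgroup `S₃³ = ∏ ⟨eᵢ, σᵢ⟩` of odd index. -/
structure H8 (z : G) (σ e : Fin 3 → G) : Prop where
  big : Big z
  ez : ∀ i, Commute z (e i)
  σz : ∀ i, Commute z (σ i)
  e3 : ∀ i, e i ^ 3 = 1
  ee : ∀ i j, Commute (e i) (e j)
  ind : ∀ k : Fin 3 → ZMod 3, e 0 ^ (k 0).val * e 1 ^ (k 1).val * e 2 ^ (k 2).val = 1 → k = 0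
  σe : ∀ i j, i ≠ j → Commute (σ i) (e j)
  inv : ∀ i, σ i * e i * (σ i)⁻¹ = (e i)⁻¹
  σ2 : ∀ i, σ i * σ i ∈ QQ z
  σσ : ∀ i j, σ i * σ j * (σ i)⁻¹ * (σ j)⁻¹ ∈ QQ z
  n16 : ¬ 16 ∣ (QQ z).relIndex (centralizer {z})
  nrm : centralizer {z} ≤ normalizer (CC z σ e : Set G)

/-- Subsets of `{0, 1, 2}` are coded by `Fin 8`; `fl i` flips the membership of `i`. -/
def fl (i : Fin 3) (S : Fin 8) : Fin 8 := ⟨(S.val ^^^ 2 ^ i.val) % 8, Nat.mod_lt _ (by decide)⟩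

/-- The root elements of the parabolic subgroup: `x S` has root `α + ∑_{i ∈ S} αᵢ`, `z` is the highest root, `s i` has root `αᵢ`,
`m i` is the reflection in `αᵢ`. -/
structure L8 (z : G) where
  x : Fin 8 → G
  s : Fin 3 → G
  m : Fin 3 → G
  big : Big z
  conj : IsConj z (x 7)
  gen : closure (Set.range x) = QQ z
  x2 : ∀ S, x S * x S = 1
  xx : ∀ S T, x S * x T = x T * x S * if S.val + T.val = 7 then z else 1
  sz : ∀ i, Commute z (s i)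
  mz : ∀ i, Commute z (m i)
  s2 : ∀ i, s i * s i = 1
  m2 : ∀ i, m i * m i = 1
  sm3 : ∀ i, (s i * m i) ^ 3 = 1
  ss : ∀ i j, Commute (s i) (s j)
  sm : ∀ i j, i ≠ j → Commute (s i) (m j)
  mm : ∀ i j, Commute (m i) (m j)
  mx : ∀ i S, m i * x S * m i = x (fl i S)
  sx : ∀ i S, s i * x S * s i = if S.val.testBit i.val then x S else x S * x (fl i S)
  sQ : ∀ i, s i ∈ QQ (x 7)
  xQ : ∀ i, x (fl i 7) ∈ QQ (x 7)
  syl : Inv.Fz.IsSylIn 2 (TT z s) (centralizer {z})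
  nrm : centralizer {z} ≤ normalizer (CC z s m : Set G)
  fus : ∀ b ∈ QQ z, IsConj z b → b = z ∨ ∃ c ∈ CC z s m, c * b * c⁻¹ = x 7

/-- `y` has root `-α`. -/
structure Y8 (z : G) extends L8 z where
  y : G
  yQ : y ∈ QQ (x 7)
  y2 : y * y = 1
  yz : y * z * y = z * x 7
  ys : ∀ i, Commute y (s i)
  yx : ∀ i, Commute y (x (fl i 7))
  yx' : ∀ i, y * x (fl i 0) * y = x (fl i 0) * s i
  xy : (x 0 * y) ^ 3 = 1
  braid : ∀ i, (x 0 * y * x 0 * m i) ^ 3 = 1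
  Qa : QQ (x 7) ≤ CC z s m ⊔ zpowers y

/-- The subgroup generated by the root elements. -/
abbrev Y8.G0 {z : G} (l : Y8 z) : Subgroup G := CC z l.s l.m ⊔ zpowers l.y

end Cfsg.Agent.O8
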