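import Mathlib
import Cfsg.Agent.O8.Defs
import Cfsg.Agent.Loc.MssSyl

/-!
Words in three commuting involutions, the eight weight vectors of `Q / ⟨z⟩`, and the Sylow
2-subgroup `TT z σ`.
-/

set_option autoImplicit false
set_option linter.unusedSectionVars false

namespace Cfsg.Agent.O8

open Cfsg.Agent.Spor Cfsg.Agent.Spor.TT Cfsg.Agent.LX Subgroup QuadraticMap Module
open Cfsg.Agent.Loc.Mss (Syl cmod)
open scoped Cfsg.Agent.Loc.Mss

namespace BL

section Words

variable {A : Type*} [Monoid A] {m : Fin 3 → A} {s : A} {i : Fin 3} {S : Fin 8}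

/-- The product of the `m i` with `i ∉ S`. -/
def wd (m : Fin 3 → A) : Fin 8 → A :=
  ![m 0 * (m 1 * m 2), m 1 * m 2, m 0 * m 2, m 2, m 0 * m 1, m 1, m 0, 1]

theorem mul_wd (h2 : ∀ i, m i * m i = 1) (hc : ∀ i j, Commute (m i) (m j)) (i : Fin 3)
    (S : Fin 8) : m i * wd m S = wd m (fl i S) := by
  have k : ∀ i x, m i * (m i * x) = x := fun i x => by rw [← mul_assoc, h2, one_mul]
  have l : ∀ i j x, m i * (m j * x) = m j * (m i * x) := fun i j x => (hc i j).left_comm x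
  fin_cases i <;> fin_cases S <;>
    simp [wd, fl, k, h2, l 1 0, l 2 0, l 2 1, (hc 1 0).eq, (hc 2 0).eq, (hc 2 1).eq]

theorem commute_wd (h : ∀ j, i ≠ j → Commute s (m j)) (hS : S.val.testBit i.val) :
    Commute s (wd m S) := by
  fin_cases i <;> fin_cases S <;> simp [wd] at hS ⊢ <;>
    first
    | exact absurd hS (by decide)
    | exact h _ (by decide)
    | exact (h _ (by decide)).mul_right (h _ (by decide))

theorem commute_wd' (h : ∀ j, Commute s (m j)) (S : Fin 8) : Commute s (wd m S) := by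
  fin_cases S <;> simp [wd, h, Commute.mul_right]

theorem wd_seven : wd m 7 = 1 := rfl

theorem wd_fl (i : Fin 3) : wd m (fl i 7) = m i := by fin_cases i <;> rfl

theorem fl_fl : ∀ (i : Fin 3) (S : Fin 8), fl i (fl i S) = S := by decide

theorem bit_fl : ∀ (i : Fin 3) (S : Fin 8), (fl i S).val.testBit i.val = !S.val.testBit i.val := by
  decide

theorem bit_seven : ∀ i : Fin 3, (7 : Fin 8).val.testBit i.val := by decide

end Words

section Linear

variable {V : Type*} [AddCommGroup V] [Module (ZMod 2) V] {q : QuadraticForm (ZMod 2) V}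
  {S M : Fin 3 → End (ZMod 2) V} {v : Fin 8 → V} {u w : V} {i : Fin 3} {T : Fin 8}

/-- The action of the `S i`, `M i` on the eight vectors `v T`. -/
structure VB (q : QuadraticForm (ZMod 2) V) (S M : Fin 3 → End (ZMod 2) V) (v : Fin 8 → V) :
    Prop where
  mv : ∀ i T, M i (v T) = v (fl i T)
  sv : ∀ i T, S i (v T) = if T.val.testBit i.val then v T else v T + v (fl i T)
  pS : ∀ i u w, polar q (S i u) (S i w) = polar q u w
  pM : ∀ i u w, polar q (M i u) (M i w) = polar q u w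
  SS : ∀ i u, S i (S i u) = u

namespace VB

variable (h : VB q S M v)
include h

theorem adj (i : Fin 3) (u w : V) : polar q (u + S i u) w = polar q u (w + S i w) := by
  rw [polar_add_left, polar_add_right, ← h.pS i u (S i w), h.SS]

theorem add_sv (hT : ¬ T.val.testBit i.val) : v T + S i (v T) = v (fl i T) := by
  rw [h.sv, if_neg hT, v2_add_add]

theorem pol_fix (hu : S i u = u) (hT : T.val.testBit i.val) : polar q u (v T) = 0 := by
  rw [← fl_fl i T, ← h.add_sv (by simp [bit_fl, hT]), ← h.adj, hu, v2_add_self, polar_zero_left]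

theorem pol_fl (i : Fin 3) (T T' : Fin 8) :
    polar q (v (fl i T)) (v (fl i T')) = polar q (v T) (v T') := by rw [← h.mv, ← h.mv, h.pM]

theorem gram (T T' : Fin 8) :
    polar q (v T) (v T') = if T.val + T'.val = 7 then polar q (v 7) (v 0) else 0 := by
  split_ifs with e
  · have k : ∀ T T' : Fin 8, T.val + T'.val = 7 → (T = 7 ∧ T' = 0) ∨
        (∃ i, fl i T = 7 ∧ fl i T' = 0) ∨ (∃ i j, fl j (fl i T) = 7 ∧ fl j (fl i T') = 0) ∨
        (fl 2 (fl 1 (fl 0 T)) = 7 ∧ fl 2 (fl 1 (fl 0 T')) = 0) := by decide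
    rcases k T T' e with ⟨rfl, rfl⟩ | ⟨i, e1, e2⟩ | ⟨i, j, e1, e2⟩ | ⟨e1, e2⟩
    · rfl
    all_goals simp only [← e1, ← e2, h.pol_fl]
  · have k : ∀ T T' : Fin 8, T.val + T'.val ≠ 7 → ∃ i : Fin 3,
        (T.val.testBit i.val ∧ T'.val.testBit i.val) ∨
        ((fl i T).val.testBit i.val ∧ (fl i T').val.testBit i.val) := by decide
    obtain ⟨i, ⟨e1, e2⟩ | ⟨e1, e2⟩⟩ := k T T' e
    · exact h.pol_fix (by rw [h.sv, if_pos e1]) e2
    · rw [← h.pol_fl i]
      exact h.pol_fix (by rw [h.sv, if_pos e1]) e2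

theorem expand (hc : Nat.card V = 256) (hb : polar q (v 7) (v 0) = 1) (u : V) :
    u = ∑ T, polar q u (v T.rev) • v T := by
  have : Finite V := Nat.finite_of_card_ne_zero (by rw [hc]; norm_num)
  have k : ∀ (c : Fin 8 → ZMod 2) (T : Fin 8), polar q (∑ T', c T' • v T') (v T.rev) = c T :=
    fun c T => by
      rw [← polarBilin_apply_apply, map_sum, LinearMap.sum_apply, Finset.sum_eq_single T]
      · rw [polarBilin_apply_apply, polar_smul_left, h.gram, if_pos (by rw [Fin.val_rev]; omega),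
          hb, smul_eq_mul, mul_one]
      · intro T' _ n
        rw [polarBilin_apply_apply, polar_smul_left, h.gram,
          if_neg (fun e => n (Fin.ext (by rw [Fin.val_rev] at e; omega))), smul_zero]
      · simp
  have inj : Function.Injective fun c : Fin 8 → ZMod 2 => ∑ T', c T' • v T' := fun c c' e =>
    funext fun T => by rw [← k c T, ← k c' T]; exact congrArg (polar q · _) e
  obtain ⟨c, rfl⟩ := ((Nat.bijective_iff_injective_and_card _).2 ⟨inj, by simp [hc]⟩).2 u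
  simp only [k]

theorem eq_zero (hc : Nat.card V = 256) (hb : polar q (v 7) (v 0) = 1)
    (hu : ∀ T, polar q u (v T) = 0) : u = 0 := by
  rw [h.expand hc hb u]; simp [hu]

theorem fixed (hc : Nat.card V = 256) (hb : polar q (v 7) (v 0) = 1) (hu : ∀ i, S i u = u) :
    u = 0 ∨ u = v 7 := by
  have k : ∀ T : Fin 8, T = 0 ∨ ∃ i : Fin 3, T.val.testBit i.val := by decide
  rcases z2_cases (polar q u (v 0)) with e | e
  · refine Or.inl (h.eq_zero hc hb fun T => ?_)
    rcases k T with rfl | ⟨i, hi⟩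
    exacts [e, h.pol_fix (hu i) hi]
  · refine Or.inr (v2_add_eq_zero.1 (h.eq_zero hc hb fun T => ?_))
    rw [polar_add_left]
    rcases k T with rfl | ⟨i, hi⟩
    · rw [e, hb]; rfl
    · rw [h.pol_fix (hu i) hi, h.pol_fix (i := i) (by rw [h.sv, if_pos (bit_seven i)]) hi,
        add_zero]

theorem mem_of_pol (hc : Nat.card V = 256) (hb : polar q (v 7) (v 0) = 1)
    {W : Submodule (ZMod 2) V} (h7 : v 7 ∈ W) (hi : ∀ i, v (fl i 7) ∈ W)
    (p7 : polar q u (v 7) = 0) (pi : ∀ i, polar q u (v (fl i 7)) = 0) : u ∈ W := by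
  have k : ∀ T : Fin 8, T.rev = 7 ∨ (∃ i, T.rev = fl i 7) ∨ T = 7 ∨ ∃ i, T = fl i 7 := by decide
  rw [h.expand hc hb u]
  refine W.sum_mem fun T _ => ?_
  rcases k T with e | ⟨i, e⟩ | rfl | ⟨i, rfl⟩
  · simp [e, p7]
  · simp [e, pi]
  exacts [W.smul_mem _ h7, W.smul_mem _ (hi i)]

end VB

end Linear

section Grp

variable {G : Type*} [Group G] [Finite G] {z a b c g t : G} {σ e : Fin 3 → G}

local instance : Fact (Nat.Prime 2) := ⟨Nat.prime_two⟩

theorem eq_one_of_three {P : Subgroup G} (hP : IsPGroup 2 P) (hx : g ∈ P) (h3 : g ^ 3 = 1) :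
    g = 1 := by
  obtain ⟨k, hk⟩ := Loc.Mss.pg_iff.1 hP g hx
  exact orderOf_eq_one_iff.1 (Nat.eq_one_of_dvd_coprimes
    ((by norm_num : Nat.Coprime 2 3).pow_left k) (orderOf_dvd_of_pow_eq_one hk)
    (orderOf_dvd_of_pow_eq_one h3))

/-- The centraliser of `z`. -/
abbrev CZ (z : G) : Subgroup G := centralizer {z}

theorem mem_CZ : g ∈ CZ z ↔ Commute z g := mem_centralizer_singleton

theorem norm_Q (h : Big z) : CZ z ≤ 𝐍[QQ z] := fun _ hg => h.lg.mem_normalizer (mem_CZ.1 hg)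

theorem Q_le (h : Big z) : QQ z ≤ CZ z := fun _ hg => mem_CZ.2 (h.comm hg)

theorem Q_le_T : QQ z ≤ TT z σ := le_sup_left

theorem σ_mem (i : Fin 3) : σ i ∈ TT z σ := mem_sup_right (subset_closure ⟨i, rfl⟩)

theorem T_le_C : TT z σ ≤ CC z σ e := le_sup_left

theorem e_mem (i : Fin 3) : e i ∈ CC z σ e := mem_sup_right (subset_closure ⟨i, rfl⟩)

/-- `Q L` for the involution `b`. -/
abbrev QL (z b : G) : Subgroup G := QQ z ⊔ (QQ b ⊓ CZ z)

theorem cj_QL (h : Big z) (hc : Commute z c) : cj(c, QL z b) = QL z (cj c b) := by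
  rw [Loc.Mss.cj_sup, Loc.Mss.cj_inf, Loc.Mss.cj_of_norm (norm_Q h (mem_CZ.2 hc)), ← QQ_cj,
    Loc.Mss.cj_of_mem (mem_CZ.2 hc)]

theorem D_sq (h : Big z) (hc : IsConj z b) (n : b ≠ z) (k : g ∈ QQ z ⊓ QQ b) : g * g = 1 :=
  (h.es.sq g k.1).resolve_right fun c => ((h.of_isConj hc).es.sq g k.2).elim
    (fun d => h.ne_one (c.symm.trans d)) fun d => n (d.symm.trans c)

theorem D_comm (h : Big z) (hc : IsConj z b) (n : b ≠ z) :
    ∀ x ∈ QQ z ⊓ QQ b, ∀ y ∈ QQ z ⊓ QQ b, x * y = y * x := fun _ hx _ hy =>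
  comm_of_sq_eq_one (fun _ k => D_sq h hc n k) hx hy

theorem card_QL (h : Big z) (hb : b ∈ QQ z) (hc : IsConj z b) (n : b ≠ z) :
    Nat.card (QL z b) * Nat.card ↥(QQ z ⊓ QQ b) = 4096 * 32 := by
  have k := GT.PG.card_sup_mul_card_inf (H := QQ b ⊓ CZ z) (N := QQ z)
    (inf_le_right.trans (norm_Q h))
  have k2 := (h.of_isConj hc).es.card_centralizer_mul_two (h.symm hc hb) h.ne_one n.symm
  rw [(h.of_isConj hc).card] at k2
  rw [sup_comm, inf_assoc, inf_eq_right.2 (Q_le h), inf_comm (QQ b) (QQ z), h.card] at k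
  rw [k]
  change Nat.card ↥(QQ b ⊓ centralizer {z}) * 512 = _
  omega

theorem pg_QL (h : Big z) (hc : IsConj z b) : IsPGroup 2 (QL z b) :=
  Loc.Mss.pg_sup' h.es.isPGroup ((h.of_isConj hc).es.isPGroup.to_le inf_le_left)
    (inf_le_right.trans (norm_Q h))

/-- The involution `a ∈ Q` is in position: `Q L = T`. -/
structure Ps (z : G) (σ : Fin 3 → G) (a : G) : Prop where
  mem : a ∈ QQ z
  conj : IsConj z a
  ne : a ≠ z
  eq : QL z a = TT z σ

variable (h : H8 z σ e)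
include h

theorem e_ne (i : Fin 3) : e i ≠ 1 := fun k => by
  have := h.ind (Pi.single i 1) (by fin_cases i <;> simpa [ZMod.val_one] using k)
  simpa using congrFun this i

theorem T_le : TT z σ ≤ CZ z :=
  sup_le (Q_le h.big) ((closure_le _).2 (by rintro _ ⟨i, rfl⟩; exact mem_CZ.2 (h.σz i)))

theorem C_le : CC z σ e ≤ CZ z :=
  sup_le (T_le h) ((closure_le _).2 (by rintro _ ⟨i, rfl⟩; exact mem_CZ.2 (h.ez i)))

theorem not_mem_cmod {i : Fin 3} (hg : g * e i * g⁻¹ = (e i)⁻¹) :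
    g ∉ cmod (zpowers (e i)) (QQ z) := fun k => by
  have k2 := k.2 _ (mem_zpowers _)
  rw [commutatorElement_def, show e i * g * (e i)⁻¹ * g⁻¹ = e i * (g * e i * g⁻¹)⁻¹ by group, hg,
    inv_inv] at k2
  refine e_ne h i (eq_one_of_three h.big.es.isPGroup ?_ (h.e3 i))
  have := mul_mem k2 k2
  rwa [show e i * e i * (e i * e i) = e i ^ 3 * e i by simp only [pow_succ, pow_zero, one_mul, mul_assoc], h.e3,
    one_mul] at this

theorem Q_le_cmod (i : Fin 3) : QQ z ≤ cmod (zpowers (e i)) (QQ z) :=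
  Loc.Mss.le_cmod.2 ⟨le_normalizer, Loc.Mss.comm_le_right
    (zpowers_le.2 (norm_Q h.big (mem_CZ.2 (h.ez i))))⟩

theorem not_mem_Q {i : Fin 3} (hg : g * e i * g⁻¹ = (e i)⁻¹) : g ∉ QQ z := fun k =>
  not_mem_cmod h hg (Q_le_cmod h i k)

theorem card_T : Nat.card (TT z σ) = 4096 := by
  have mc : ∀ i j, j ≠ i → σ j ∈ cmod (zpowers (e i)) (QQ z) := fun i j n =>
    ⟨norm_Q h.big (mem_CZ.2 (h.σz j)), by
      rintro _ ⟨k, rfl⟩
      rw [commutatorElement_eq_one_iff_commute.2 ((h.σe j i n).symm.zpow_left k)]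
      exact one_mem _⟩
  have step : ∀ (N : Subgroup G) (i : Fin 3), QQ z ≤ N → σ i ∈ 𝐍[N] →
      ∀ j, σ i ∈ 𝐍[N ⊔ zpowers (σ j)] := fun N i hN hn j =>
    Loc.Mss.mem_norm_of_cj_le (by
      rw [Loc.Mss.cj_sup, Loc.Mss.cj_of_norm hn, MonoidHom.map_zpowers]
      refine sup_le le_sup_left (zpowers_le.2 ?_)
      have := mul_mem_sup (hN (h.σσ i j)) (mem_zpowers (σ j))
      rwa [inv_mul_cancel_right] at this)
  have n0 := fun i => norm_Q h.big (mem_CZ.2 (h.σz i))
  have sq : ∀ i, σ i ^ 2 ∈ QQ z := fun i => by rw [pow_two]; exact h.σ2 i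
  have k0 := GT.PG.card_sup_zpowers Nat.prime_two (n0 0) (not_mem_Q h (h.inv 0)) (sq 0)
  have k1 := GT.PG.card_sup_zpowers Nat.prime_two (step _ 1 le_rfl (n0 1) 0)
    (fun k => not_mem_cmod h (h.inv 1)
      (sup_le (Q_le_cmod h 1) (zpowers_le.2 (mc 1 0 (by decide))) k)) (mem_sup_left (sq 1))
  have k2 := GT.PG.card_sup_zpowers Nat.prime_two
    (step _ 2 le_sup_left (step _ 2 le_rfl (n0 2) 0) 1)
    (fun k => not_mem_cmod h (h.inv 2) (sup_le (sup_le (Q_le_cmod h 2)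
      (zpowers_le.2 (mc 2 0 (by decide)))) (zpowers_le.2 (mc 2 1 (by decide))) k))
    (mem_sup_left (mem_sup_left (sq 2)))
  rw [k1, k0, h.big.card] at k2
  rw [show TT z σ = QQ z ⊔ zpowers (σ 0) ⊔ zpowers (σ 1) ⊔ zpowers (σ 2) from le_antisymm
    (sup_le (le_sup_left.trans (le_sup_left.trans le_sup_left)) ((closure_le _).2 (by
      rintro _ ⟨i, rfl⟩
      fin_cases i
      exacts [mem_sup_left (mem_sup_left (mem_sup_right (mem_zpowers _))),
        mem_sup_left (mem_sup_right (mem_zpowers _)), mem_sup_right (mem_zpowers _)])))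
    (sup_le (sup_le (sup_le Q_le_T (zpowers_le.2 (σ_mem 0))) (zpowers_le.2 (σ_mem 1)))
      (zpowers_le.2 (σ_mem 2))), k2]

theorem syl_T : Syl 2 (TT z σ) (CZ z) := by
  refine ⟨T_le h, IsPGroup.of_card (n := 12) (card_T h), fun k => h.n16 ?_⟩
  have k1 := Inv.Fz.card_mul_relIndex (Q_le_T (z := z) (σ := σ))
  rw [card_T h, h.big.card] at k1
  rw [← relIndex_mul_relIndex _ _ _ Q_le_T (T_le h), show (QQ z).relIndex (TT z σ) = 8 by omega]
  exact Nat.mul_dvd_mul_left 8 k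

theorem exists_ps (hb : b ∈ QQ z) (hc : IsConj z b) (n : b ≠ z) :
    ∃ c ∈ CC z σ e, Ps z σ (cj c b) := by
  have le : QL z b ≤ CZ z := sup_le (Q_le h.big) inf_le_right
  obtain ⟨g, hg, k⟩ := (syl_T h).conj_le (pg_QL h.big hc) le
  have le' : QL z b ≤ CC z σ e := by
    rw [← Loc.Mss.cj_le_cj (g := g), Loc.Mss.cj_of_norm (h.nrm hg)]
    exact k.trans T_le_C
  obtain ⟨c, hc', k'⟩ := ((syl_T h).mono T_le_C (C_le h)).conj_le (pg_QL h.big hc) le'
  have zc := mem_CZ.1 (C_le h hc')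
  refine ⟨c, hc', h.big.cj_mem zc hb, hc.trans (LX.isConj_cj c b),
    fun k => n (cj_injective c (k.trans (cj_of_commute zc.symm).symm)), ?_⟩
  rw [← cj_QL h.big zc]
  refine eq_of_le_of_card_ge k' ?_
  have k1 := card_QL h.big hb hc n
  have k2 := h.big.card_le_of_comm inf_le_left ⟨h.big.z_mem, h.big.symm hc hb⟩ (D_comm h.big hc n)
  rw [card_T h, Loc.Mss.card_cj]
  nlinarith

theorem Ps.cj_mem (p : Ps z σ a) (hc : c ∈ TT z σ) : Ps z σ (cj c a) := by
  have zc := mem_CZ.1 (T_le h hc)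
  exact ⟨h.big.cj_mem zc p.mem, p.conj.trans (LX.isConj_cj c a),
    fun k => p.ne (cj_injective c (k.trans (cj_of_commute zc.symm).symm)), by
      rw [← cj_QL h.big zc, p.eq, Loc.Mss.cj_of_mem hc]⟩

theorem Ps.exists_L (p : Ps z σ a) (ht : t ∈ TT z σ) :
    ∃ l ∈ QQ a, Commute z l ∧ ∃ q ∈ QQ z, l = q * t := by
  rw [← p.eq, Loc.Mss.mem_sup_norm (inf_le_right.trans (norm_Q h.big))] at ht
  obtain ⟨q, hq, l, hl, rfl⟩ := ht
  exact ⟨l, hl.1, mem_CZ.1 hl.2, q⁻¹, inv_mem hq, by group⟩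

/-- Every coset of `Q` in `T` other than `Q` contains an involution of `L`. -/
theorem Ps.exists_inv (p : Ps z σ a) (ht : t ∈ TT z σ) (hn : t ∉ QQ z) :
    ∃ l ∈ QQ a, Commute z l ∧ l * l = 1 ∧ (∃ q ∈ QQ z, l = q * t) ∧
      ∃ d ∈ QQ z, cj l d = a * d := by
  have ha := h.big.of_isConj p.conj
  obtain ⟨l, hl, zl, q, hq, e⟩ := p.exists_L h ht
  have k := card_QL h.big p.mem p.conj p.ne
  rw [p.eq, card_T h] at k
  obtain ⟨d, hd, nd⟩ : ∃ d ∈ QQ z ⊓ QQ a, d * l ≠ l * d := by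
    by_contra c
    push Not at c
    exact hn ((mul_mem_cancel_left hq).1 (e ▸ (ha.mem_of_card inf_le_right ⟨p.mem, ha.z_mem⟩
      (D_comm h.big p.conj p.ne) (by omega) hl c).1))
  have k1 : cj l d = a * d := ha.es.aes.conj_of_ne hl hd.2 nd.symm
  rcases ha.es.sq l hl with s | s
  · exact ⟨l, hl, zl, s, ⟨q, hq, e⟩, d, hd.1, k1⟩
  have dd := D_sq h.big p.conj p.ne hd
  have ad : Commute a d := ha.comm hd.2
  refine ⟨d * l, mul_mem hd.2 hl, (h.big.comm hd.1).mul_right zl, ?_,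
    ⟨d * q, mul_mem hd.1 hq, by rw [e, mul_assoc]⟩, d, hd.1, ?_⟩
  · calc d * l * (d * l) = d * cj l d * (l * l) := by rw [cj_def]; group
      _ = a * (d * d) * a := by rw [k1, s, ← mul_assoc d, ← ad.eq, mul_assoc a d]
      _ = 1 := by rw [dd, mul_one, ha.sq]
  · rw [← cj_cj, k1]
    exact cj_of_commute (ad.symm.mul_right (Commute.refl d))

/-- The element `e₀^k₀ e₁^k₁ e₂^k₂`. -/
abbrev rho {A : Type*} [Monoid A] (e : Fin 3 → A) (k : Fin 3 → ZMod 3) : A :=
  e 0 ^ (k 0).val * e 1 ^ (k 1).val * e 2 ^ (k 2).val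

theorem rho_add (k l : Fin 3 → ZMod 3) : rho e (k + l) = rho e k * rho e l := by
  have p : ∀ i, e i ^ ((k + l) i).val = e i ^ (k i).val * e i ^ (l i).val := fun i => by
    rw [Pi.add_apply, ZMod.val_add, ← pow_add, ← pow_eq_pow_mod _ (h.e3 i)]
  have c : ∀ i j m n, Commute (e i ^ m) (e j ^ n) := fun i j m n => (h.ee i j).pow_pow m n
  rw [rho, p, p, p, (c 0 1 _ _).mul_mul_mul_comm,
    (((c 0 2 _ _).mul_left (c 1 2 _ _))).mul_mul_mul_comm]

theorem z_rho (k : Fin 3 → ZMod 3) : Commute z (rho e k) :=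
  (((h.ez 0).pow_right _).mul_right ((h.ez 1).pow_right _)).mul_right ((h.ez 2).pow_right _)

theorem Ps.free (p : Ps z σ a) {k : Fin 3 → ZMod 3}
    (hk : cj (rho e k) a = a ∨ cj (rho e k) a = z * a) : k = 0 := by
  have r3 : rho e k * (rho e k * rho e k) = 1 := by
    rw [← rho_add h, ← rho_add h, show k + (k + k) = 0 from funext fun i => by
      have : ∀ x : ZMod 3, x + (x + x) = 0 := by decide
      exact this _]
    simp [rho]
  have fx : cj (rho e k) a = a := hk.resolve_right fun c => by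
    have zz : cj (rho e k) z = z := cj_of_commute (z_rho h k).symm
    have := congrArg (cj · a) r3
    simp only [← cj_cj, c, cj_mul, zz, h.big.es.z_mul_z_mul, cj_one] at this
    exact h.big.ne_one (mul_eq_right.1 this)
  have nT : rho e k ∈ 𝐍[TT z σ] := Loc.Mss.cj_eq_iff.1 (by
    rw [← p.eq, cj_QL h.big (z_rho h k), fx])
  have c : ∀ i j m n, Commute (e i ^ m) (e j ^ n) := fun i j m n => (h.ee i j).pow_pow m n
  have key : ∀ i, e i ^ (k i).val = 1 := fun i => by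
    obtain ⟨r, er, cr⟩ : ∃ r, rho e k = e i ^ (k i).val * r ∧ Commute (σ i) r := by
      have s := fun j n m => (h.σe i j n).pow_right m
      fin_cases i
      · exact ⟨_, mul_assoc _ _ _, (s 1 (by decide) _).mul_right (s 2 (by decide) _)⟩
      · exact ⟨_, by rw [rho, (c 0 1 _ _).eq, mul_assoc]; rfl,
          (s 0 (by decide) _).mul_right (s 2 (by decide) _)⟩
      · exact ⟨_, ((c 0 2 _ _).mul_left (c 1 2 _ _)).eq,
          (s 0 (by decide) _).mul_right (s 1 (by decide) _)⟩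
    have m := mul_mem (Loc.Mss.conj_mem_of_norm nT (σ_mem i)) (inv_mem (σ_mem (z := z) i))
    have iv : σ i * e i ^ (k i).val * (σ i)⁻¹ = (e i ^ (k i).val)⁻¹ := by
      rw [← conj_pow, h.inv, inv_pow]
    have f3 : (e i ^ (k i).val) ^ 3 = 1 := by rw [← pow_mul, mul_comm, pow_mul, h.e3, one_pow]
    rw [er] at m
    generalize e i ^ (k i).val = f at m iv f3
    rw [mul_assoc f r, ← cr.eq, show f * (σ i * r) * (f * r)⁻¹ * (σ i)⁻¹ =
      f * (σ i * f * (σ i)⁻¹)⁻¹ by group, iv, inv_inv] at m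
    refine eq_one_of_three (syl_T h).pg ?_ f3
    have := mul_mem m m
    rwa [show f * f * (f * f) = f ^ 3 * f by simp only [pow_succ, pow_zero, one_mul, mul_assoc], f3, one_mul] at this
  exact h.ind k (by rw [key, key, key, one_mul, one_mul])

end Grp

end BL

end Cfsg.Agent.O8
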