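import Mathlib
import Cfsg.Agent.O8.Defs
import Cfsg.Agent.O8.A
import Cfsg.Agent.O8.BA

/-!
The root elements of the centraliser `2^(1+8) . (S₃ × S₃ × S₃)`.
-/

set_option autoImplicit false
set_option linter.unusedSectionVars false

namespace Cfsg.Agent.O8

open Cfsg.Agent.Spor Cfsg.Agent.Spor.TT Cfsg.Agent.LX Subgroup QuadraticMap Module

variable {G : Type*} [Group G] [Finite G]

namespace BL

variable {V : Type*} [AddCommGroup V] [Module (ZMod 2) V] {q : QuadraticForm (ZMod 2) V}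
  {π : G → V} {act : G → End (ZMod 2) V} {z a g g' τ r p : G} {σ e : Fin 3 → G} {i j : Fin 3}

theorem VB.cub {S M : Fin 3 → End (ZMod 2) V} {v : Fin 8 → V} (h : VB q S M v)
    (hc : Nat.card V = 256) (hb : polar q (v 7) (v 0) = 1) (i : Fin 3) (u : V) :
    (S i * M i) u + (S i * M i) ((S i * M i) u) = u := by
  have k : ∀ T, (S i * M i) (v T) + (S i * M i) ((S i * M i) (v T)) = v T := fun T => by
    by_cases b : T.val.testBit i.val <;>
      simp only [End.mul_apply, h.mv, h.sv, bit_fl, b, fl_fl, map_add, Bool.not_true,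
        Bool.not_false, Bool.false_eq_true, if_true, if_false]
    · rw [add_comm (v T), v2_add_add]
    · rw [add_comm (v T), v2_add_add]
  rw [h.expand hc hb u]
  simp only [map_sum, map_smul, ← Finset.sum_add_distrib, ← smul_add, k]

/-- The reflections. -/
def mm (σ e : Fin 3 → G) (i : Fin 3) : G := cj (e i) (σ i)

/-- The root elements in `Q`. -/
def xx (σ e : Fin 3 → G) (a : G) (S : Fin 8) : G := cj (wd (mm σ e) S) a

theorem xx_seven : xx σ e a 7 = a := cj_one a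

theorem xx_fl (i : Fin 3) : xx σ e a (fl i 7) = cj (mm σ e i) a := by rw [xx, wd_fl]

/-- The relation `a a^e a^(e²) = 1`. -/
def Dl (σ e : Fin 3 → G) (a : G) (i : Fin 3) : Prop :=
  cj (σ i) (cj (mm σ e i) a) = cj (mm σ e i) a * a

theorem inv_eq_sq (h : g ^ 3 = 1) : g⁻¹ = g * g :=
  inv_eq_of_mul_eq_one_right (by rw [← h, pow_three])

/-- The data: coordinates and an involution in position. -/
structure Cx (z : G) (σ e : Fin 3 → G) (a : G) (q : QuadraticForm (ZMod 2) V) (π : G → V)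
    (act : G → End (ZMod 2) V) : Prop where
  h : H8 z σ e
  co : Co z q π act
  ps : Ps z σ a

namespace Cx

variable (c : Cx z σ e a q π act)
include c

theorem big : Big a := c.h.big.of_isConj c.ps.conj

theorem zQ : z ∈ QQ a := c.h.big.symm c.ps.conj c.ps.mem

theorem swap (ht : τ * e i * τ⁻¹ = (e i)⁻¹) : τ * e i = e i * e i * τ := by
  rw [← inv_eq_sq (c.h.e3 i), ← ht, inv_mul_cancel_right]

theorem m_eq (i : Fin 3) : mm σ e i = e i * e i * σ i := by
  rw [mm, cj_def, show e i * σ i * (e i)⁻¹ = e i * (σ i * e i * (σ i)⁻¹)⁻¹ * σ i by group,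
    c.h.inv, inv_inv]

theorem zm (i : Fin 3) : Commute z (mm σ e i) := commute_cj_of_commute (c.h.ez i) (c.h.σz i)

theorem zw (S : Fin 8) : Commute z (wd (mm σ e) S) := commute_wd' c.zm S

theorem x_mem (S : Fin 8) : xx σ e a S ∈ QQ z := c.h.big.cj_mem (c.zw S) c.ps.mem

theorem x_sq (S : Fin 8) : xx σ e a S * xx σ e a S = 1 := by
  rw [xx, ← cj_mul, c.big.sq, cj_one_right]

theorem act_Q (hg : g ∈ QQ z) : act g = 1 := LinearMap.ext (c.co.act_of_mem hg)

theorem act_Q_mul (hp : p ∈ QQ z) (hg : Commute z g) : act (p * g) = act g := by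
  rw [c.co.act_mul (c.h.big.comm hp) hg, c.act_Q hp, one_mul]

theorem act_comm (hg : Commute z g) (hg' : Commute z g') (h : g * g' * g⁻¹ * g'⁻¹ ∈ QQ z) :
    Commute (act g) (act g') := by
  have := c.act_Q_mul h (hg'.mul_right hg)
  rwa [show g * g' * g⁻¹ * g'⁻¹ * (g' * g) = g * g' by group, c.co.act_mul hg hg',
    c.co.act_mul hg' hg] at this

theorem act_comm' (hg : Commute z g) (hg' : Commute z g') (h : Commute g g') :
    Commute (act g) (act g') := LinearMap.ext (c.co.act_comm hg hg' h)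

theorem pi_x (S : Fin 8) : π (xx σ e a S) = wd (fun i => act (mm σ e i)) S (π a) := by
  rw [xx, c.co.conj _ (c.zw S) _ c.ps.mem]
  congr 1
  fin_cases S <;>
    simp [wd, c.co.act_mul, c.zm, Commute.mul_right, c.co.act_one]

theorem s_fix (i : Fin 3) : act (σ i) (π a) = π a := by
  obtain ⟨l, hl, zl, p, hp, rfl⟩ := c.ps.exists_L c.h (σ_mem i)
  rw [← c.act_Q_mul hp (c.h.σz i)]
  exact c.co.act_of_comm zl c.ps.mem (c.big.comm hl).symm

theorem act_rho (k : Fin 3 → ZMod 3) : act (rho e k) = rho (fun i => act (e i)) k := by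
  have z := fun i n => (c.h.ez i).pow_right n
  simp only [rho, c.co.act_mul ((z 0 _).mul_right (z 1 _)) (z 2 _), c.co.act_mul (z 0 _) (z 1 _),
    c.co.act_pow (c.h.ez _)]

theorem act_swap (hz : Commute z τ) (ht : τ * e i * τ⁻¹ = (e i)⁻¹) :
    act τ * act (e i) = act (e i) * act (e i) * act τ := by
  rw [← c.co.act_mul hz (c.h.ez i), c.swap ht,
    c.co.act_mul ((c.h.ez i).mul_right (c.h.ez i)) hz, c.co.act_mul (c.h.ez i) (c.h.ez i)]

theorem act_ss (i : Fin 3) : act (σ i) * act (σ i) = 1 := by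
  rw [← c.co.act_mul (c.h.σz i) (c.h.σz i), c.act_Q (c.h.σ2 i)]

theorem act_e3 (i : Fin 3) : act (e i) ^ 3 = 1 := by
  rw [← c.co.act_pow (c.h.ez i), c.h.e3, c.co.act_one]

theorem act_m (i : Fin 3) : act (mm σ e i) = act (e i) * act (e i) * act (σ i) := by
  rw [c.m_eq, c.co.act_mul ((c.h.ez i).mul_right (c.h.ez i)) (c.h.σz i),
    c.co.act_mul (c.h.ez i) (c.h.ez i)]

theorem act_sm (i : Fin 3) : act (σ i) * act (mm σ e i) = act (e i) := by
  have s := c.act_swap (c.h.σz i) (c.h.inv i)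
  have k := c.act_e3 i
  rw [pow_three'] at k
  rw [c.act_m, ← mul_assoc, ← mul_assoc, s, mul_assoc _ (act (σ i)), s, ← mul_assoc, ← mul_assoc,
    mul_assoc _ (act (σ i)), c.act_ss, mul_one, k, one_mul]

theorem cub0 (i : Fin 3) : π a + act (e i) (π a) + act (e i) (act (e i) (π a)) = 0 := by
  refine p_eq_zero c.co.card (fun i => act (σ i)) (fun i => act (e i)) c.act_e3
    (fun i j => c.act_comm' (c.h.ez i) (c.h.ez j) (c.h.ee i j)) c.act_ss
    (fun i j n => c.act_comm' (c.h.σz i) (c.h.ez j) (c.h.σe i j n))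
    (fun i => by rw [pow_two]; exact c.act_swap (c.h.σz i) (c.h.inv i)) c.s_fix (fun i => ?_)
    (fun k hk => c.ps.free c.h ((c.co.act_eq_iff (z_rho c.h k) c.ps.mem).1
      (by rw [c.act_rho]; exact hk))) i
  obtain ⟨l, -, zl, -, ⟨p, hp, rfl⟩, d, hd, k⟩ :=
    c.ps.exists_inv c.h (σ_mem i) (not_mem_Q c.h (c.h.inv i))
  have := c.co.conj _ zl d hd
  rw [k, c.co.mul _ c.ps.mem _ hd, c.act_Q_mul hp (c.h.σz i)] at this
  exact ⟨π d, by rw [← this, add_comm (π a), v2_add_add]⟩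

theorem vb : VB q (fun i => act (σ i)) (fun i => act (mm σ e i)) fun S => π (xx σ e a S) := by
  have ee := fun i j => c.act_comm' (c.h.ez i) (c.h.ez j) (c.h.ee i j)
  have se := fun i j n => c.act_comm' (c.h.σz i) (c.h.ez j) (c.h.σe i j n)
  have ss := fun i j => c.act_comm (c.h.σz i) (c.h.σz j) (c.h.σσ i j)
  have sm : ∀ i j, i ≠ j → Commute (act (σ i)) (act (mm σ e j)) := fun i j n => by
    rw [c.act_m]; exact ((se i j n).mul_right (se i j n)).mul_right (ss i j)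
  have mm' : ∀ i j, Commute (act (mm σ e i)) (act (mm σ e j)) := fun i j => by
    by_cases n : i = j
    · rw [n]
    have em : Commute (act (e i)) (act (mm σ e j)) := by
      rw [c.act_m]; exact ((ee i j).mul_right (ee i j)).mul_right (se j i (Ne.symm n)).symm
    rw [c.act_m i]
    exact (em.mul_left em).mul_left (sm i j n)
  have m2 : ∀ i, act (mm σ e i) * act (mm σ e i) = 1 := fun i => by
    rw [← c.co.act_mul (c.zm i) (c.zm i), mm, ← cj_mul,
      c.act_Q (c.h.big.cj_mem (c.h.ez i) (c.h.σ2 i))]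
  have mv : ∀ i T, act (mm σ e i) (π (xx σ e a T)) = π (xx σ e a (fl i T)) := fun i T => by
    rw [c.pi_x, c.pi_x, ← mul_wd m2 mm', End.mul_apply]
  refine ⟨mv, fun i T => ?_, fun i => c.co.act_pol (c.h.σz i), fun i => c.co.act_pol (c.zm i),
    fun i u => by rw [← End.mul_apply, c.act_ss, End.one_apply]⟩
  split_ifs with b
  · rw [c.pi_x, ← End.mul_apply, (commute_wd (sm i) b).eq, End.mul_apply, c.s_fix]
  · have b' : (fl i T).val.testBit i.val := by simp [bit_fl, b]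
    have k : act (σ i) (act (mm σ e i) (π a)) = act (mm σ e i) (π a) + π a := by
      rw [← End.mul_apply, c.act_sm, c.act_m, End.mul_apply, End.mul_apply, c.s_fix,
        ← v2_add_eq_zero, ← c.cub0 i]
      abel
    have k2 : π (xx σ e a T) = wd (fun i => act (mm σ e i)) (fl i T) (act (mm σ e i) (π a)) := by
      rw [← End.mul_apply, ← (commute_wd' (mm' i) _).eq, End.mul_apply, ← c.pi_x, mv, fl_fl]
    rw [k2, ← End.mul_apply, (commute_wd (sm i) b').eq, End.mul_apply, k, map_add, c.pi_x]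

theorem beta : polar q (π (xx σ e a 7)) (π (xx σ e a 0)) = 1 := by
  refine (z2_cases _).resolve_left fun b => ?_
  let U := Submodule.span (ZMod 2) (Set.range fun S => π (xx σ e a S))
  have m : ∀ S, π (xx σ e a S) ∈ U := fun S => Submodule.subset_span ⟨S, rfl⟩
  have k1 : ∀ u ∈ U, ∀ w ∈ U, polar q u w = 0 := fun u hu w hw => by
    have : U ≤ LinearMap.ker ((polarBilin q).flip w) := Submodule.span_le.2 (by
      rintro _ ⟨S, rfl⟩
      have : U ≤ LinearMap.ker (polarBilin q (π (xx σ e a S))) := Submodule.span_le.2 (by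
        rintro _ ⟨T, rfl⟩
        exact (c.vb.gram S T).trans (by rw [b, ite_self]))
      exact this hw)
    exact this hu
  have k2 := c.h.big.card_le_of_comm (P := c.co.up U) (fun _ k => k.1) (c.co.z_mem_up U)
    fun x hx y hy => (c.co.comm x hx.1 y hy.1).2 (k1 _ hx.2 _ hy.2)
  have k3 : ∀ i, ∀ u ∈ U, act (e i) u ∈ U := fun i => by
    refine show U ≤ U.comap (act (e i)) from Submodule.span_le.2 ?_
    rintro _ ⟨S, rfl⟩
    change act (e i) _ ∈ U
    rw [← c.act_sm, End.mul_apply, c.vb.mv, c.vb.sv]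
    split_ifs
    exacts [m _, U.add_mem (m _) (m _)]
  have k4 : ∀ k, act (rho e k) (π a) ∈ U := fun k => by
    rw [c.act_rho]
    exact End.pow_apply_mem_of_forall_mem _ (k3 0) _ (End.pow_apply_mem_of_forall_mem _ (k3 1) _
      (End.pow_apply_mem_of_forall_mem _ (k3 2) _ (xx_seven (σ := σ) (e := e) (a := a) ▸ m 7)))
  have := c.co.finite
  have k5 := Nat.card_le_card_of_injective (fun k => (⟨_, k4 k⟩ : U)) fun k l hk => by
    have hk' : act (rho e k) (π a) = act (rho e l) (π a) := congrArg Subtype.val hk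
    refine (neg_add_eq_zero.1 (c.ps.free c.h ((c.co.act_eq_iff (z_rho c.h _) c.ps.mem).1 ?_))).symm
    rw [rho_add c.h, c.co.act_mul' (z_rho c.h _) (z_rho c.h _), hk',
      ← c.co.act_mul' (z_rho c.h _) (z_rho c.h _), ← rho_add c.h, neg_add_cancel]
    simp [rho, c.co.act_one]
  rw [c.co.card_up] at k2
  simp at k5
  omega

theorem cub (i : Fin 3) (u : V) : act (e i) u + act (e i) (act (e i) u) = u := by
  have := c.vb.cub c.co.card c.beta i u
  rwa [c.act_sm] at this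

theorem x_comm (S T : Fin 8) : Commute (xx σ e a S) (xx σ e a T) ↔ S.val + T.val ≠ 7 := by
  rw [c.co.comm _ (c.x_mem S) _ (c.x_mem T), c.vb.gram, c.beta]
  simp

theorem cj_x0 : cj (xx σ e a 0) a = z * a :=
  c.h.big.es.aes.conj_of_ne (c.x_mem 0) c.ps.mem fun k =>
    (c.x_comm 0 7).1 (by rwa [xx_seven]) rfl

section Inv

variable (hz : Commute z τ) (ht : τ * e i * τ⁻¹ = (e i)⁻¹)
include hz ht

theorem rep (hr : r ∈ QQ z) (h : act τ (π r) = π r) :
    ∃ u ∈ QQ z, r = u * cj τ u⁻¹ ∨ r = z * (u * cj τ u⁻¹) := by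
  have hu := c.h.big.cj_mem (c.h.ez i) hr
  refine ⟨_, hu, (c.co.eq_iff hr (mul_mem hu (c.h.big.cj_mem hz (inv_mem hu)))).1 ?_⟩
  rw [c.co.pi_comm hu hz, c.co.conj _ (c.h.ez i) _ hr, ← End.mul_apply (act τ), c.act_swap hz ht,
    End.mul_apply, End.mul_apply, h, c.cub]

theorem sq_one (h2 : τ * τ ∈ QQ z) (hp : p ∈ QQ z) (h : p * τ * (p * τ) = 1) :
    τ * τ = 1 ∧ act τ (π p) = π p := by
  have k0 : π (τ * τ) = 0 := by
    have k : Commute (e i) (τ * τ) := by
      have : τ * τ * e i * (τ * τ)⁻¹ = e i := by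
        rw [show τ * τ * e i * (τ * τ)⁻¹ = τ * (τ * e i * τ⁻¹) * τ⁻¹ by group, ht,
          show τ * (e i)⁻¹ * τ⁻¹ = (τ * e i * τ⁻¹)⁻¹ by group, ht, inv_inv]
      exact (cj_eq_self_iff.1 this).symm
    have k' := c.co.act_of_comm (c.h.ez i) h2 k
    rw [← c.cub i (π (τ * τ)), k', k', v2_add_self]
  have k1 : act τ (π p) = π p := by
    have m := c.h.big.cj_mem hz hp
    rw [← c.co.conj _ hz _ hp, eq_comm, ← v2_add_eq_zero, ← c.co.mul _ hp _ m, ← add_zero (π _),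
      ← k0, ← c.co.mul _ (mul_mem hp m) _ h2, k0,
      show p * cj τ p * (τ * τ) = p * τ * (p * τ) by rw [cj_def]; group, h, c.co.one]
  refine ⟨?_, k1⟩
  obtain ⟨u, hu, k⟩ := c.rep hz ht hp k1
  have k2 : cj u τ * cj u τ = 1 := by
    rcases k with k | k <;> rw [k] at h
    · rw [← h, cj_def, cj_def]; group
    · have zc : Commute z (cj u τ) := commute_cj_of_commute (c.h.big.comm hu) hz
      rwa [show z * (u * cj τ u⁻¹) * τ = z * cj u τ by rw [cj_def, cj_def]; group,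
        zc.symm.mul_mul_mul_comm, c.h.big.sq, one_mul] at h
  rwa [← cj_mul, cj_eq_iff, cj_one_right] at k2

theorem fix (h2 : τ * τ = 1) (hr : r ∈ QQ z) (rr : r * r = 1) (h : act τ (π r) = π r) :
    Commute τ r := by
  obtain ⟨u, hu, k⟩ := c.rep hz ht hr h
  have k1 : cj τ (u * cj τ u⁻¹) = (u * cj τ u⁻¹)⁻¹ := by
    rw [cj_mul, cj_cj, h2, cj_one, mul_inv_rev, ← cj_inv, inv_inv]
  refine cj_eq_self_iff.1 (Eq.trans ?_ (inv_eq_self_of_sq rr))
  rcases k with k | k <;> rw [k]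
  · exact k1
  · rw [cj_mul, k1, cj_of_commute hz.symm, mul_inv_rev z, c.h.big.es.z_inv]
    exact c.h.big.comm (inv_mem (mul_mem hu (c.h.big.cj_mem hz (inv_mem hu))))

end Inv

theorem exists_l (i : Fin 3) : σ i * σ i = 1 ∧
    ∃ p ∈ QQ z, p * σ i ∈ QQ a ∧ act (σ i) (π p) = π p := by
  obtain ⟨l, hl, -, ll, ⟨p, hp, rfl⟩, -⟩ :=
    c.ps.exists_inv c.h (σ_mem i) (not_mem_Q c.h (c.h.inv i))
  obtain ⟨k1, k2⟩ := c.sq_one (c.h.σz i) (c.h.inv i) (c.h.σ2 i) hp ll
  exact ⟨k1, p, hp, hl, k2⟩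

theorem s2 (i : Fin 3) : σ i * σ i = 1 := (c.exists_l i).1

theorem ss (i j : Fin 3) : Commute (σ i) (σ j) := by
  by_cases n : i = j
  · rw [n]
  have ht : σ i * σ j * e i * (σ i * σ j)⁻¹ = (e i)⁻¹ := by
    rw [mul_assoc (σ i), (c.h.σe j i (Ne.symm n)).eq, ← c.h.inv]; group
  obtain ⟨l, -, -, ll, ⟨p, hp, rfl⟩, -⟩ :=
    c.ps.exists_inv c.h (mul_mem (σ_mem i) (σ_mem j)) (not_mem_Q c.h ht)
  have ii := inv_eq_self_of_sq (c.s2 i)
  have jj := inv_eq_self_of_sq (c.s2 j)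
  have := (c.sq_one ((c.h.σz i).mul_right (c.h.σz j)) ht (by
    have := c.h.σσ i j
    rwa [ii, jj, mul_assoc] at this) hp ll).1
  rw [Commute, SemiconjBy, ← inv_eq_self_of_sq this, mul_inv_rev, ii, jj]

theorem sa (i : Fin 3) : Commute (σ i) a :=
  c.fix (c.h.σz i) (c.h.inv i) (c.s2 i) c.ps.mem c.big.sq (c.s_fix i)

theorem sm (n : i ≠ j) : Commute (σ i) (mm σ e j) := commute_cj_of_commute (c.h.σe i j n) (c.ss i j)

theorem m2 (i : Fin 3) : mm σ e i * mm σ e i = 1 := by rw [mm, ← cj_mul, c.s2, cj_one_right]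

theorem mm_comm (i j : Fin 3) : Commute (mm σ e i) (mm σ e j) := by
  by_cases n : i = j
  · rw [n]
  exact (commute_cj_of_commute (commute_cj_of_commute (c.h.ee i j)
    (c.h.σe j i (Ne.symm n)).symm).symm (c.sm n).symm).symm

theorem s_mul_m (i : Fin 3) : σ i * mm σ e i = e i := by
  rw [mm, cj_def, ← mul_assoc, ← mul_assoc, c.swap (c.h.inv i), mul_assoc _ (σ i) (σ i),
    c.s2]
  group

theorem comm_mem {x l : G} (hx : x ∈ QQ z) (hxa : Commute a x) (hl : l ∈ QQ a) :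
    x * cj l x⁻¹ ∈ QQ a := by
  rw [show x * cj l x⁻¹ = cj x l * l⁻¹ by simp only [cj_def]; group]
  exact mul_mem (c.big.cj_mem hxa hl) (inv_mem hl)

theorem a_comm {S : Fin 8} (h : S ≠ 0) : Commute a (xx σ e a S) := by
  have := (c.x_comm 7 S).2 fun k => h (Fin.ext (by simp at k ⊢; omega))
  rwa [xx_seven] at this

theorem xQ (i : Fin 3) : xx σ e a (fl i 7) ∈ QQ a := by
  have k : ∀ i : Fin 3, ∃ (j : Fin 3) (T : Fin 8), T ≠ 0 ∧ ¬ T.val.testBit j.val ∧
    fl j T = fl i 7 := by decide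
  obtain ⟨j, T, h0, hj, hT⟩ := k i
  obtain ⟨-, p, hp, hl, -⟩ := c.exists_l j
  have zl := (c.h.big.comm hp).mul_right (c.h.σz j)
  have m := c.comm_mem (c.x_mem T) (c.a_comm h0) hl
  have k1 := c.co.pi_comm (c.x_mem T) zl
  rw [c.act_Q_mul hp (c.h.σz j), c.vb.add_sv hj, hT, eq_comm, c.co.eq_iff (c.x_mem _)
    (mul_mem (c.x_mem T) (c.h.big.cj_mem zl (inv_mem (c.x_mem T))))] at k1
  rcases k1 with k1 | k1 <;> rw [k1]
  exacts [m, mul_mem c.zQ m]

theorem dl_or (i : Fin 3) :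
    Dl σ e a i ∨ cj (σ i) (cj (mm σ e i) a) = z * (cj (mm σ e i) a * a) := by
  have m := c.x_mem (fl i 7)
  have k := c.vb.sv i (fl i 7)
  rw [if_neg (by rw [bit_fl, bit_seven]; decide), fl_fl, xx_seven, ← c.co.conj _ (c.h.σz i) _ m,
    ← c.co.mul _ m _ c.ps.mem, c.co.eq_iff (c.h.big.cj_mem (c.h.σz i) m) (mul_mem m c.ps.mem),
    xx_fl] at k
  exact k

theorem pa (hl : p * σ i ∈ QQ a) : Commute p a := by
  have := ((c.big.comm hl).mul_right (c.sa i).symm.inv_right).symm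
  rwa [mul_inv_cancel_right] at this

theorem dl_iff (hp : p ∈ QQ z) (hl : p * σ i ∈ QQ a) :
    Dl σ e a i ↔ polar q (π p) (π (xx σ e a (fl i 7))) = 0 := by
  have m := c.x_mem (fl i 7)
  have ay := c.big.comm (c.xQ i)
  have hne : cj p (cj (σ i) (xx σ e a (fl i 7))) ≠ z * (xx σ e a (fl i 7) * a) := fun k => by
    rw [cj_cj, ← ay.eq, ← mul_assoc] at k
    rcases c.big.es.aes.conj_eq hl (c.xQ i) with k' | k'
    · exact c.ps.ne (by
        rw [← c.h.big.es.z_mul_z_mul a, mul_eq_right.1 (k.symm.trans k'), mul_one])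
    · exact c.h.big.ne_one (mul_eq_right.1 (mul_right_cancel (k.symm.trans k')))
  rw [← c.co.comm _ hp _ m]
  constructor
  · intro d
    by_contra n
    rw [Dl, ← xx_fl] at d
    exact hne (by rw [d, cj_mul, cj_of_commute (c.pa hl), ← mul_assoc,
      ← c.h.big.es.aes.conj_of_ne hp m n, cj_def])
  · intro k
    refine (c.dl_or i).resolve_right fun d => hne ?_
    rw [← xx_fl] at d
    rw [d]
    exact cj_of_commute ((c.h.big.comm hp).symm.mul_right (k.mul_right (c.pa hl)))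

theorem dl_all (i j : Fin 3) (d : Dl σ e a i) : Dl σ e a j := by
  by_cases n : i = j
  · rwa [← n]
  have k : ∀ i j : Fin 3, i ≠ j → ∃ T : Fin 8, T ≠ 0 ∧ ¬ T.val.testBit i.val ∧
    ¬ T.val.testBit j.val ∧ fl j T = fl i 7 ∧ fl i T = fl j 7 := by decide
  obtain ⟨T, h0, hi, hj, e1, e2⟩ := k i j n
  obtain ⟨-, p, hp, hl, -⟩ := c.exists_l i
  obtain ⟨-, p', hp', hl', -⟩ := c.exists_l j
  rw [c.dl_iff hp hl, ← e1, ← c.vb.add_sv hj, ← c.vb.adj] at d
  rw [c.dl_iff hp' hl', ← e2, ← c.vb.add_sv hi, ← c.vb.adj]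
  have m := c.h.big.cj_mem (c.h.σz i) hp'
  have m' := c.h.big.cj_mem (c.h.σz j) hp
  have f1 : p * σ i * (p' * σ j) = p * cj (σ i) p' * (σ i * σ j) := by rw [cj_def]; group
  have f2 : p' * σ j * (p * σ i) = p' * cj (σ j) p * (σ i * σ j) := by
    rw [cj_def, (c.ss i j).eq]; group
  have a0 : polar q (π a) (π (xx σ e a T)) = 0 :=
    (c.co.comm _ c.ps.mem _ (c.x_mem T)).1 (c.a_comm h0)
  have k1 : polar q (π (p * cj (σ i) p')) (π (xx σ e a T)) =
      polar q (π (p' * cj (σ j) p)) (π (xx σ e a T)) := by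
    rcases c.big.es.comm _ hl _ hl' with k | k <;> rw [f1, f2] at k
    · rw [mul_right_cancel k]
    · rw [← mul_assoc a] at k
      rw [mul_right_cancel k, c.co.mul _ c.ps.mem _ (mul_mem hp' m'), polar_add_left, a0, zero_add]
  rw [c.co.mul _ hp _ m, c.co.mul _ hp' _ m', c.co.conj _ (c.h.σz i) _ hp',
    c.co.conj _ (c.h.σz j) _ hp] at k1
  simp only [polar_add_left] at d k1 ⊢
  have z2 : ∀ s t u w : ZMod 2, s + t = 0 → s + w = u + t → u + w = 0 := by decide
  exact z2 _ _ _ _ d k1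

theorem sQ (d : ∀ i, Dl σ e a i) (i : Fin 3) : σ i ∈ QQ a := by
  obtain ⟨-, p, hp, hl, hf⟩ := c.exists_l i
  have k := c.vb.mem_of_pol c.co.card c.beta (u := π p) (W := c.co.dn (QQ z ⊓ QQ a))
    ⟨a, ⟨c.ps.mem, c.big.z_mem⟩, c.ps.mem, by rw [xx_seven]⟩
    (fun j => ⟨_, ⟨c.x_mem _, c.xQ j⟩, c.x_mem _, rfl⟩) (c.vb.pol_fix hf (bit_seven i)) fun j => by
      by_cases n : i = j
      · exact n ▸ (c.dl_iff hp hl).1 (d i)
      · exact c.vb.pol_fix hf ((by decide : ∀ i j : Fin 3, i ≠ j → (fl j 7).val.testBit i.val) i j n)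
  have : p ∈ QQ z ⊓ QQ a :=
    c.co.up_dn inf_le_left ⟨c.h.big.z_mem, c.zQ⟩ ▸ c.co.mem_up.2 ⟨hp, k⟩
  exact ((QQ a).mul_mem_cancel_left this.2).1 hl

theorem cc_eq : CC z σ (mm σ e) = CC z σ e := by
  refine le_antisymm (sup_le T_le_C ((closure_le _).2 ?_)) (sup_le T_le_C ((closure_le _).2 ?_)) <;>
    rintro _ ⟨i, rfl⟩
  · exact mul_mem (mul_mem (e_mem i) (T_le_C (σ_mem i))) (inv_mem (e_mem i))
  · exact c.s_mul_m i ▸ mul_mem (T_le_C (σ_mem i)) (e_mem i)

theorem x_rel (S T : Fin 8) : xx σ e a S * xx σ e a T =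
    xx σ e a T * xx σ e a S * if S.val + T.val = 7 then z else 1 := by
  split_ifs with k
  · rw [c.h.big.es.aes.eq_of_ne (c.x_mem S) (c.x_mem T) fun n => (c.x_comm S T).1 n k]
    exact c.h.big.comm (mul_mem (c.x_mem T) (c.x_mem S))
  · rw [mul_one]; exact (c.x_comm S T).2 k

theorem gen : closure (Set.range (xx σ e a)) = QQ z := by
  have le : closure (Set.range (xx σ e a)) ≤ QQ z :=
    (closure_le _).2 (by rintro _ ⟨S, rfl⟩; exact c.x_mem S)
  have m : ∀ S, xx σ e a S ∈ closure (Set.range (xx σ e a)) := fun S => subset_closure ⟨S, rfl⟩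
  have hz : z ∈ closure (Set.range (xx σ e a)) := by
    have := mul_mem (m 7) (m 0)
    rwa [c.x_rel, mul_mem_cancel_left (mul_mem (m 0) (m 7))] at this
  refine le_antisymm le fun y hy => ?_
  rw [← c.co.up_dn le hz]
  refine ⟨hy, ?_⟩
  rw [c.vb.expand c.co.card c.beta (π y)]
  exact Submodule.sum_mem _ fun T _ => Submodule.smul_mem _ _ ⟨_, m T, c.x_mem T, rfl⟩

theorem fus {b : G} (hb : b ∈ QQ z) (hc : IsConj z b) :
    b = z ∨ ∃ g ∈ CC z σ e, g * b * g⁻¹ = a := by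
  refine or_iff_not_imp_left.2 fun n => ?_
  obtain ⟨g, hg, ps⟩ := exists_ps c.h hb hc n
  have c' : Cx z σ e (cj g b) q π act := ⟨c.h, c.co, ps⟩
  rcases c.vb.fixed c.co.card c.beta c'.s_fix with k | k
  · exact ((c.co.ker _ ps.mem).1 k).elim (absurd · c'.big.ne_one) (absurd · ps.ne)
  rw [xx_seven, c.co.eq_iff ps.mem c.ps.mem, ← c.cj_x0] at k
  rcases k with k | k
  · exact ⟨g, hg, k⟩
  · exact ⟨(xx σ e a 0)⁻¹ * g, mul_mem (inv_mem (T_le_C (Q_le_T (c.x_mem 0)))) hg, by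
      rw [← cj_def, ← cj_cj, k, cj_inv_cj]⟩

theorem exists_L8 (d : ∀ i, Dl σ e a i) : ∃ l : L8 z, CC z l.s l.m = CC z σ e := by
  have mx : ∀ i S, cj (mm σ e i) (xx σ e a S) = xx σ e a (fl i S) := fun i S => by
    rw [xx, cj_cj, mul_wd c.m2 c.mm_comm, xx]
  refine ⟨⟨xx σ e a, σ, mm σ e, c.h.big, by rw [xx_seven]; exact c.ps.conj, c.gen,
    c.x_sq, c.x_rel, c.h.σz, c.zm, c.s2, c.m2, fun i => by rw [c.s_mul_m, c.h.e3], c.ss,
    fun i j => c.sm, c.mm_comm, fun i S => ?_, fun i S => ?_, fun i => ?_, fun i => ?_,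
    Inv.Fz.isSylIn_of_not_dvd (syl_T c.h).le (syl_T c.h).pg (syl_T c.h).nd, c.cc_eq ▸ c.h.nrm,
    fun b hb hc => ?_⟩, c.cc_eq⟩
  · rw [← mx, cj_def, inv_eq_self_of_sq (c.m2 i)]
  · have k : ∀ S : Fin 8, S.val.testBit i.val → ∀ y, cj (σ i) (cj (wd (mm σ e) S) y) =
        cj (wd (mm σ e) S) (cj (σ i) y) := fun S b y => by
      rw [cj_cj, cj_cj, (commute_wd (fun j n => c.sm n) b).eq]
    rw [show σ i * xx σ e a S * σ i = cj (σ i) (xx σ e a S) by
      rw [cj_def, inv_eq_self_of_sq (c.s2 i)]]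
    split_ifs with b
    · rw [xx, k S b, cj_of_commute (c.sa i)]
    · have k2 : xx σ e a S = cj (wd (mm σ e) (fl i S)) (cj (mm σ e i) a) := by
        rw [cj_cj, ← (commute_wd' (c.mm_comm i) _).eq, mul_wd c.m2 c.mm_comm, fl_fl, xx]
      rw [k2, k _ (by simp [bit_fl, b]), d i, cj_mul, xx]
  · rw [xx_seven]; exact c.sQ d i
  · rw [xx_seven]; exact c.xQ i
  · rw [xx_seven, c.cc_eq]; exact c.fus hb hc

end Cx

end BL

theorem H8.exists_L8 {z a : G} {σ e : Fin 3 → G} (h : H8 z σ e) (ha : a ∈ QQ z) (hc : IsConj z a) (n : a ≠ z) :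
    ∃ l : L8 z, CC z l.s l.m = CC z σ e := by
  obtain ⟨V, _, _, q, π, act, co⟩ := h.big.exists_co
  obtain ⟨g, -, ps⟩ := BL.exists_ps h ha hc n
  generalize cj g a = b at ps
  have c : BL.Cx z σ e b q π act := ⟨h, co, ps⟩
  rcases c.dl_or 0 with d | d
  · exact c.exists_L8 fun i => c.dl_all 0 i d
  have c' : BL.Cx z σ e (z * b) q π act :=
    ⟨h, co, c.cj_x0 ▸ ps.cj_mem h (BL.Q_le_T (c.x_mem 0))⟩
  refine c'.exists_L8 fun i => c'.dl_all 0 i ?_
  have zy : Commute z (cj (BL.mm σ e 0) b) := h.big.comm (h.big.cj_mem (c.zm 0) ps.mem)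
  rw [BL.Dl, cj_mul, cj_of_commute (c.zm 0).symm, cj_mul, cj_of_commute (h.σz 0).symm, d,
    h.big.es.z_mul_z_mul, zy.symm.mul_mul_mul_comm, h.big.sq, one_mul]

end Cfsg.Agent.O8
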