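import Mathlib
import Cfsg.Agent.O8.Defs

/-!
The opposite root element: construction of `y` and its relations with the unipotent radical.
-/

set_option autoImplicit false

namespace Cfsg.Agent.O8

open Cfsg.Agent.Spor Cfsg.Agent.LX Subgroup QuadraticMap

variable {G : Type*} [Group G]

/-- An element commuting with a symplectic basis is central. -/
theorem cen_of_symp {a : G} (h : Big a) (u v : Fin 4 → G) (hu : ∀ i, u i ∈ QQ a) (hv : ∀ i, v i ∈ QQ a)
    (uu : ∀ i j, Commute (u i) (u j)) (vv : ∀ i j, Commute (v i) (v j))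
    (uv : ∀ i j, i ≠ j → Commute (u i) (v j)) (un : ∀ i, ¬ Commute (u i) (v i)) {g : G} (hg : g ∈ QQ a)
    (gu : ∀ i, Commute g (u i)) (gv : ∀ i, Commute g (v i)) : g = 1 ∨ g = a := by
  obtain ⟨V, _, _, q, π, act, k⟩ := h.exists_co
  have := k.finite
  have p1 : ∀ i j, polarBilin q (π (u i)) (π (u j)) = 0 := fun i j => (k.comm _ (hu i) _ (hu j)).1 (uu i j)
  have p2 : ∀ i j, polarBilin q (π (v i)) (π (v j)) = 0 := fun i j => (k.comm _ (hv i) _ (hv j)).1 (vv i j)
  have p3 : ∀ i j, polarBilin q (π (u i)) (π (v j)) = if i = j then 1 else 0 := fun i j => by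
    split_ifs with e
    · subst e
      exact (z2_cases _).resolve_left fun c => un i ((k.comm _ (hu i) _ (hv i)).2 c)
    · exact (k.comm _ (hu i) _ (hv j)).1 (uv i j e)
  have p4 : ∀ i j, polarBilin q (π (v i)) (π (u j)) = if i = j then 1 else 0 := fun i j => by
    rw [polarBilin_apply_apply, polar_comm, ← polarBilin_apply_apply, p3]
    simp only [eq_comm]
  let ψ : (Fin 4 → ZMod 2) × (Fin 4 → ZMod 2) → V := fun c => ∑ i, c.1 i • π (u i) + ∑ i, c.2 i • π (v i)
  have e1 : ∀ c j, polarBilin q (ψ c) (π (v j)) = c.1 j := fun c j => by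
    simp only [ψ, map_add, map_sum, map_smul, LinearMap.add_apply, LinearMap.sum_apply, LinearMap.smul_apply,
      p2, p3]
    simp
  have e2 : ∀ c j, polarBilin q (ψ c) (π (u j)) = c.2 j := fun c j => by
    simp only [ψ, map_add, map_sum, map_smul, LinearMap.add_apply, LinearMap.sum_apply, LinearMap.smul_apply,
      p1, p4]
    simp
  have inj : Function.Injective ψ := fun c d e =>
    Prod.ext (funext fun j => by rw [← e1, ← e1, e]) (funext fun j => by rw [← e2, ← e2, e])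
  have sur := (inj.bijective_of_nat_card_le (by rw [k.card]; simp)).2
  refine (k.ker g hg).1 (k.nd fun w => ?_)
  obtain ⟨c, rfl⟩ := sur w
  have g1 : ∀ i, polarBilin q (π g) (π (u i)) = 0 := fun i => (k.comm _ hg _ (hu i)).1 (gu i)
  have g2 : ∀ i, polarBilin q (π g) (π (v i)) = 0 := fun i => (k.comm _ hg _ (hv i)).1 (gv i)
  rw [← polarBilin_apply_apply]
  simp only [ψ, map_add, map_sum, map_smul, g1, g2]
  simp

theorem adj {Q : Subgroup G} {z y u v : G} (h : AES Q z) (hy : y ∈ Q) (hu : u ∈ Q) (hv : v ∈ Q)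
    (n : ¬ Commute u v) : ∃ c, (c = 1 ∨ c = u) ∧ Commute (y * c) v := by
  by_cases e : Commute y v
  · exact ⟨1, Or.inl rfl, by rwa [mul_one]⟩
  · exact ⟨u, Or.inr rfl, h.comm_mul_of_ne hy hu hv e n⟩

theorem comm_of_cj {n a : G} (hn : n * n = 1) (h : n * a * n = a) : Commute n a := by
  change n * a = a * n
  conv_rhs => rw [← h, mul_assoc, hn, mul_one]

theorem cj_of_comm {n a : G} (hn : n * n = 1) (h : Commute n a) : n * a * n = a := by
  rw [h.eq, mul_assoc, hn, mul_one]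

theorem cj_mul2 {n : G} (hn : n * n = 1) (a b : G) : n * (a * b) * n = n * a * n * (n * b * n) := by
  calc n * (a * b) * n = n * a * (n * n) * b * n := by rw [hn]; group
    _ = _ := by group

theorem cj_swap {n a b : G} (hn : n * n = 1) (h : n * a * n = b) : n * b * n = a := by
  rw [← h]
  calc n * (n * a * n) * n = (n * n) * a * (n * n) := by group
    _ = a := by rw [hn]; group

theorem comm_cj_iff {n a b : G} (hn : n * n = 1) : Commute (n * a * n) b ↔ Commute a (n * b * n) := by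
  have k : ∀ a b : G, Commute a b → Commute (n * a * n) (n * b * n) := fun a b h => by
    rw [Commute, SemiconjBy, ← cj_mul2 hn, ← cj_mul2 hn, h.eq]
  exact ⟨fun h => by simpa only [cj_swap hn rfl] using k _ _ h, fun h => by
    simpa only [cj_swap hn rfl] using k _ _ h⟩

theorem third : ∀ i j : Fin 3, ∃ k, i ≠ k ∧ j ≠ k := by decide

namespace L8

variable {z : G} (l : L8 z)

/-- The root `α + α₀ + α₁ + α₂`. -/
abbrev a : G := l.x 7

/-- The root `α + αᵢ`. -/
abbrev lo (i : Fin 3) : G := l.x (fl i 0)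

/-- The root `α + α₀ + α₁ + α₂ - αᵢ`. -/
abbrev hi (i : Fin 3) : G := l.x (fl i 7)

theorem x_mem (S : Fin 8) : l.x S ∈ QQ z := l.gen ▸ subset_closure ⟨S, rfl⟩

theorem zx (S : Fin 8) : Commute z (l.x S) := l.big.comm (l.x_mem S)

theorem xc {S T : Fin 8} (h : S.val + T.val ≠ 7) : Commute (l.x S) (l.x T) :=
  (l.xx S T).trans (by rw [if_neg h, mul_one])

theorem xcj {S T : Fin 8} (h : S.val + T.val = 7) : l.x S * l.x T * l.x S = l.x T * z := by
  rw [l.xx S T, if_pos h, mul_assoc, (l.zx S).eq, ← mul_assoc, mul_assoc (l.x T), l.x2, mul_one]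

theorem xn {S T : Fin 8} (h : S.val + T.val = 7) : ¬ Commute (l.x S) (l.x T) := fun c => by
  have := l.xcj h
  rw [cj_of_comm (l.x2 S) c, left_eq_mul] at this
  exact l.big.ne_one this

theorem xcases (S T : Fin 8) : l.x S * l.x T * l.x S = l.x T ∨ l.x S * l.x T * l.x S = l.x T * z := by
  by_cases h : S.val + T.val = 7
  · exact Or.inr (l.xcj h)
  · exact Or.inl (cj_of_comm (l.x2 S) (l.xc h))

theorem sc {i : Fin 3} {S : Fin 8} (h : S.val.testBit i.val) : Commute (l.s i) (l.x S) :=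
  comm_of_cj (l.s2 i) ((l.sx i S).trans (if_pos h))

theorem sn {i : Fin 3} {S : Fin 8} (h : ¬ S.val.testBit i.val) :
    l.s i * l.x S * l.s i = l.x S * l.x (fl i S) := (l.sx i S).trans (if_neg h)

theorem bigA : Big l.a := l.big.of_isConj l.conj

theorem sa (i : Fin 3) : Commute (l.s i) l.a := l.sc (by revert i; decide)

theorem slo (i : Fin 3) : Commute (l.s i) (l.lo i) := l.sc (by revert i; decide)

theorem shi {i j : Fin 3} (h : i ≠ j) : Commute (l.s i) (l.hi j) := l.sc (by revert i j; decide)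

theorem shi' (i : Fin 3) : l.s i * l.hi i * l.s i = l.hi i * l.a :=
  (l.sn (by revert i; decide)).trans (by congr 2; revert i; decide)

theorem shi_n (i : Fin 3) : ¬ Commute (l.s i) (l.hi i) := fun c => by
  have := l.shi' i
  rw [cj_of_comm (l.s2 i) c, left_eq_mul] at this
  exact l.bigA.ne_one this

theorem slo' {i j k : Fin 3} (h1 : i ≠ j) (h2 : i ≠ k) (h3 : j ≠ k) :
    l.s i * l.lo j * l.s i = l.lo j * l.hi k :=
  (l.sn (by revert i j k; decide)).trans (by congr 2; revert i j k; decide)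

theorem s0 (i : Fin 3) : l.s i * l.x 0 * l.s i = l.x 0 * l.lo i := l.sn (by simp)

theorem hihi (i j : Fin 3) : Commute (l.hi i) (l.hi j) := l.xc (by revert i j; decide)

theorem lolo (i j : Fin 3) : Commute (l.lo i) (l.lo j) := l.xc (by revert i j; decide)

theorem lohi {i j : Fin 3} (h : i ≠ j) : Commute (l.lo i) (l.hi j) := l.xc (by revert i j; decide)

theorem lohi' (i : Fin 3) : l.lo i * l.hi i * l.lo i = l.hi i * z := l.xcj (by revert i; decide)

theorem lohi_n (i : Fin 3) : ¬ Commute (l.lo i) (l.hi i) := l.xn (by revert i; decide)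

theorem loa (i : Fin 3) : Commute (l.lo i) l.a := l.xc (by revert i; decide)

theorem hia (i : Fin 3) : Commute (l.hi i) l.a := l.xc (by revert i; decide)

theorem lo0 (i : Fin 3) : Commute (l.x 0) (l.lo i) := l.xc (by revert i; decide)

theorem hi0 (i : Fin 3) : Commute (l.x 0) (l.hi i) := l.xc (by revert i; decide)

theorem a0 : l.x 0 * l.a * l.x 0 = l.a * z := l.xcj rfl

theorem a0_n : ¬ Commute (l.x 0) l.a := l.xn rfl

theorem z_ne_a : z ≠ l.a := fun e => l.a0_n (e ▸ (l.zx 0).symm)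

theorem cenQ {g : G} (hg : g ∈ QQ z) (h : ∀ S, Commute g (l.x S)) : g = 1 ∨ g = z :=
  l.big.es.center g hg fun q hq => by
    have : QQ z ≤ centralizer {g} := by
      rw [← l.gen, closure_le]
      rintro _ ⟨S, rfl⟩
      exact mem_centralizer_singleton.2 (h S)
    exact mem_centralizer_singleton.1 (this hq)

theorem mem_Q {g : G} (hg : Commute z g) (h : ∀ S, TT.cj g (l.x S) = l.x S ∨ TT.cj g (l.x S) = z * l.x S) :
    g ∈ QQ z := by
  obtain ⟨V, _, _, q, π, act, k⟩ := l.big.exists_co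
  refine k.mem_of_act hg fun v => ?_
  obtain ⟨x, hx, rfl⟩ := k.surj v
  have hx' := hx
  rw [← l.gen] at hx'
  induction hx' using closure_induction with
  | mem x e => obtain ⟨S, rfl⟩ := e; exact (k.act_eq_iff hg hx).2 (h S)
  | one => rw [k.one, map_zero]
  | mul x y h1 h2 e1 e2 =>
    rw [l.gen] at h1 h2
    rw [k.mul x h1 y h2, map_add, e1 h1, e2 h2]
  | inv x h1 e1 =>
    rw [l.gen] at h1
    rw [k.inv h1, e1 h1]

theorem Q_le_T : QQ z ≤ TT z l.s := le_sup_left

theorem s_mem_T (i : Fin 3) : l.s i ∈ TT z l.s := mem_sup_right (subset_closure ⟨i, rfl⟩)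

theorem norm2 (i : Fin 3) {y : G} (hy : y ∈ QQ l.a) : ∃ c, (∀ K : Subgroup G, l.s i ∈ K → l.hi i ∈ K → c ∈ K) ∧
    Commute (y * c) (l.s i) ∧ Commute (y * c) (l.hi i) := by
  obtain ⟨c, hc, e1⟩ := adj l.bigA.es.aes hy (l.sQ i) (l.xQ i) (l.shi_n i)
  have mc : ∀ K : Subgroup G, l.s i ∈ K → c ∈ K := fun K h => hc.elim (· ▸ one_mem _) (· ▸ h)
  obtain ⟨d, hd, e2⟩ := adj l.bigA.es.aes (mul_mem hy (mc _ (l.sQ i))) (l.xQ i) (l.sQ i) fun c => l.shi_n i c.symm
  refine ⟨c * d, fun K h1 h2 => mul_mem (mc K h1) (hd.elim (· ▸ one_mem _) (· ▸ h2)), by rwa [← mul_assoc], ?_⟩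
  rw [← mul_assoc]
  exact e1.mul_left (hd.elim (· ▸ Commute.one_left _) (· ▸ Commute.refl _))

theorem norm6 {y : G} (hy : y ∈ QQ l.a) : ∃ c, (∀ K : Subgroup G, (∀ i, l.s i ∈ K) → (∀ i, l.hi i ∈ K) → c ∈ K) ∧
    ∀ i, Commute (y * c) (l.s i) ∧ Commute (y * c) (l.hi i) := by
  have k : ∀ i j c, (∀ K : Subgroup G, l.s i ∈ K → l.hi i ∈ K → c ∈ K) → i ≠ j → ∀ y,
      Commute y (l.s j) ∧ Commute y (l.hi j) → Commute (y * c) (l.s j) ∧ Commute (y * c) (l.hi j) :=
    fun i j c hc n y e => ⟨e.1.mul_left (Commute.symm (mem_centralizer_singleton.1 (hc _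
      (mem_centralizer_singleton.2 (l.ss j i)) (mem_centralizer_singleton.2 (l.shi n.symm))))),
      e.2.mul_left (Commute.symm (mem_centralizer_singleton.1 (hc _
      (mem_centralizer_singleton.2 (l.shi n).symm) (mem_centralizer_singleton.2 (l.hihi j i)))))⟩
  obtain ⟨c0, m0, e0⟩ := l.norm2 0 hy
  have h0 := mul_mem hy (m0 _ (l.sQ 0) (l.xQ 0))
  obtain ⟨c1, m1, e1⟩ := l.norm2 1 h0
  obtain ⟨c2, m2, e2⟩ := l.norm2 2 (mul_mem h0 (m1 _ (l.sQ 1) (l.xQ 1)))
  refine ⟨c0 * c1 * c2, fun K h1 h2 => mul_mem (mul_mem (m0 K (h1 0) (h2 0)) (m1 K (h1 1) (h2 1)))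
    (m2 K (h1 2) (h2 2)), fun i => ?_⟩
  rw [← mul_assoc, ← mul_assoc]
  fin_cases i
  exacts [k 2 0 c2 m2 (by decide) _ (k 1 0 c1 m1 (by decide) _ e0), k 2 1 c2 m2 (by decide) _ e1, e2]

/-- The first relations of the opposite root element. -/
structure Pre (y : G) : Prop where
  yQ : y ∈ QQ l.a
  y2 : y * y = 1
  yz : y * z * y = z * l.a
  ys : ∀ i, Commute y (l.s i)
  yx : ∀ i, Commute y (l.hi i)

variable {l} {y : G}

theorem Pre.ya (h : l.Pre y) : Commute y l.a := (l.bigA.comm h.yQ).symm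

theorem Pre.yz_n (h : l.Pre y) : ¬ Commute y z := fun c => by
  have := h.yz
  rw [cj_of_comm h.y2 c, left_eq_mul] at this
  exact l.bigA.ne_one this

variable [Finite G]

theorem zA (l : L8 z) : z ∈ QQ l.a := l.big.symm l.conj (l.x_mem 7)

theorem exists_pre (l : L8 z) : ∃ y, l.Pre y := by
  have es := l.bigA.es
  obtain ⟨y0, h0, n0⟩ : ∃ y0 ∈ QQ l.a, ¬ Commute y0 z := by
    by_contra! c
    exact (es.center z l.zA fun q hq => (c q hq).symm).elim l.big.ne_one l.z_ne_a
  obtain ⟨c, mc, e⟩ := l.norm6 h0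
  have h1 := mul_mem h0 (mc _ l.sQ l.xQ)
  have cz : Commute c z := Commute.symm (mem_centralizer_singleton.1 (mc _
    (fun i => mem_centralizer_singleton.2 (l.sz i)) fun i => mem_centralizer_singleton.2 (l.zx _)))
  have n1 : ¬ Commute (y0 * c) z := fun k => n0 (by simpa using k.mul_left cz.inv_left)
  obtain ⟨y, hy⟩ : ∃ y, y0 * c = y := ⟨_, rfl⟩
  rw [hy] at e h1 n1
  have fin : ∀ y ∈ QQ l.a, y * y = 1 → ¬ Commute y z → y * z * y = z * l.a := fun y h y2 n => by
    have := es.aes.conj_of_ne h l.zA n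
    rwa [inv_eq_self_of_sq y2, ← (l.zx 7).eq] at this
  rcases es.sq y h1 with y2 | y2
  · exact ⟨y, h1, y2, fin y h1 y2 n1, fun i => (e i).1, fun i => (e i).2⟩
  · have y2' : y * z * (y * z) = 1 := by
      have := es.aes.eq_of_ne l.zA h1 fun k => n1 k.symm
      calc y * z * (y * z) = y * (z * y) * z := by group
        _ = l.a * (y * y) * (z * z) := by rw [this, ← mul_assoc, ← es.z_comm y h1]; group
        _ = 1 := by rw [y2, es.z_sq, l.big.sq, mul_one]
    exact ⟨y * z, mul_mem h1 l.zA, y2', fin _ (mul_mem h1 l.zA) y2' fun k => n1 (by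
      simpa using k.mul_left (Commute.refl z).inv_left), fun i => (e i).1.mul_left (l.sz i),
      fun i => (e i).2.mul_left (l.zx _)⟩

theorem Pre.cenA (h : l.Pre y) {g : G} (hg : g ∈ QQ l.a) (gz : Commute g z) (gs : ∀ i, Commute g (l.s i))
    (gx : ∀ i, Commute g (l.hi i)) : ∃ c, (c = 1 ∨ c = z) ∧ (g * c = 1 ∨ g * c = l.a) := by
  obtain ⟨c, hc, e⟩ := adj l.bigA.es.aes hg l.zA h.yQ fun k => h.yz_n k.symm
  have k : ∀ f, Commute z f → Commute g f → Commute (g * c) f := fun f h1 h2 =>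
    h2.mul_left (hc.elim (· ▸ Commute.one_left _) (· ▸ h1))
  refine ⟨c, hc, cen_of_symp l.bigA (Fin.cons z l.s) (Fin.cons y l.hi) ?_ ?_ ?_ ?_ ?_ ?_
    (mul_mem hg (hc.elim (· ▸ one_mem _) (· ▸ l.zA))) ?_ ?_⟩
  · exact Fin.cases l.zA l.sQ
  · exact Fin.cases h.yQ l.xQ
  · exact Fin.cases (Fin.cases (Commute.refl _) l.sz) fun i => Fin.cases (l.sz i).symm (l.ss i)
  · exact Fin.cases (Fin.cases (Commute.refl _) h.yx) fun i => Fin.cases (h.yx i).symm (l.hihi i)
  · exact Fin.cases (Fin.cases (fun n => absurd rfl n) fun j _ => l.zx _) fun i =>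
      Fin.cases (fun _ => (h.ys i).symm) fun j n => l.shi fun c => n (congrArg Fin.succ c)
  · exact Fin.cases (fun k => h.yz_n k.symm) l.shi_n
  · exact Fin.cases (k z (Commute.refl z) gz) fun i => k _ (l.sz i) (gs i)
  · exact Fin.cases e fun i => k _ (l.zx _) (gx i)

theorem L_le_T (l : L8 z) {g : G} (hg : g ∈ QQ l.a) (gz : Commute g z) : g ∈ TT z l.s := by
  obtain ⟨y, h⟩ := l.exists_pre
  obtain ⟨c, mc, e⟩ := l.norm6 hg
  have cz : Commute c z := Commute.symm (mem_centralizer_singleton.1 (mc _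
    (fun i => mem_centralizer_singleton.2 (l.sz i)) fun i => mem_centralizer_singleton.2 (l.zx _)))
  obtain ⟨d, hd, e'⟩ := h.cenA (mul_mem hg (mc _ l.sQ l.xQ)) (gz.mul_left cz) (fun i => (e i).1) fun i => (e i).2
  have m1 : c ∈ TT z l.s := mc _ l.s_mem_T fun i => l.Q_le_T (l.x_mem _)
  have m2 : d ∈ TT z l.s := hd.elim (· ▸ one_mem _) (· ▸ l.Q_le_T l.big.z_mem)
  have m3 : g * c * d ∈ TT z l.s := e'.elim (· ▸ one_mem _) (· ▸ l.Q_le_T (l.x_mem 7))
  exact (mul_mem_cancel_right m1).1 ((mul_mem_cancel_right m2).1 m3)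

theorem Pre.lo_cases (h : l.Pre y) (i : Fin 3) :
    l.lo i * y * l.lo i = y * l.s i ∨ l.lo i * y * l.lo i = y * l.s i * l.a := by
  have es := l.bigA.es.aes
  have r2 := l.x2 (fl i 0)
  obtain ⟨w, hw⟩ : ∃ w, l.lo i * y * l.lo i = w := ⟨_, rfl⟩
  have wQ : w ∈ QQ l.a := by
    have := l.bigA.cj_mem (l.loa i).symm h.yQ
    rwa [TT.cj_def, inv_eq_self_of_sq r2, hw] at this
  have w2 : w * w = 1 := by rw [← hw, ← cj_mul2 r2, h.y2, mul_one, r2]
  have wc : ∀ f, Commute w f ↔ Commute y (l.lo i * f * l.lo i) := fun f => hw ▸ comm_cj_iff r2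
  have pQ := mul_mem (l.sQ i) h.yQ
  have nz : ∀ f, Commute y f → ¬ Commute y (f * z) := fun f c k => h.yz_n (by simpa using c.inv_right.mul_right k)
  obtain ⟨c, hc, e⟩ := h.cenA (mul_mem pQ wQ) (es.comm_mul_of_ne pQ wQ l.zA
      (fun k => h.yz_n (by simpa using (l.sz i).symm.inv_left.mul_left k))
      fun k => h.yz_n (by simpa only [cj_of_comm r2 (l.zx _).symm] using (wc z).1 k)) (fun j => by
    refine ((l.ss i j).mul_left (h.ys j)).mul_left ((wc _).2 ?_)
    by_cases n : j = i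
    · rw [n, cj_of_comm r2 (l.slo i).symm]; exact h.ys i
    · obtain ⟨k, n1, n2⟩ := third j i
      have : l.lo i * l.s j * l.lo i = l.s j * l.hi k := by
        calc l.lo i * l.s j * l.lo i = l.s j * (l.s j * l.lo i * l.s j) * l.lo i := by
              rw [← mul_assoc, ← mul_assoc, l.s2, one_mul]
          _ = l.s j * (l.lo i * l.hi k * l.lo i) := by rw [l.slo' n n1 n2]; group
          _ = _ := by rw [cj_of_comm r2 (l.lohi n2)]
      rw [this]
      exact (h.ys j).mul_right (h.yx k)) (fun j => by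
    by_cases n : i = j
    · subst n
      exact es.comm_mul_of_ne pQ wQ (l.xQ i)
        (fun k => l.shi_n i (by simpa using Commute.mul_left k (h.yx i).inv_left))
        fun k => nz _ (h.yx i) (l.lohi' i ▸ (wc _).1 k)
    · exact ((l.shi n).mul_left (h.yx j)).mul_left ((wc _).2 (by rw [cj_of_comm r2 (l.lohi n)]; exact h.yx j)))
  have p2 : y * l.s i * (l.s i * y) = 1 := by
    rw [mul_assoc, ← mul_assoc (l.s i), l.s2, one_mul, h.y2]
  have k : ∀ d, l.s i * y * w = d → w = y * l.s i * d := fun d e => by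
    rw [← e, ← mul_assoc, p2, one_mul]
  rw [hw]
  rcases hc with rfl | rfl
  · rw [mul_one] at e
    exact e.imp (fun e => by rw [k _ e, mul_one]) (k _)
  · exfalso
    have zz := l.big.sq
    have sq : y * l.s i * c * (y * l.s i * c) = l.a := by
      calc y * l.s i * c * (y * l.s i * c) = l.s i * (y * c * y) * l.s i * c := by
            conv_lhs => rw [mul_assoc y]
            rw [← mul_assoc, ← mul_assoc, ← mul_assoc y, (h.ys i).eq]; group
        _ = l.a := by
          rw [h.yz, cj_of_comm (l.s2 i) ((l.sz i).symm.mul_right (l.sa i)), cj_of_comm zz (l.zx 7)]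
    refine l.bigA.ne_one ?_
    rcases e with e | e
    · rw [k c (by rw [← mul_left_inj c, e, zz]), sq] at w2
      exact w2
    · have ca : Commute l.a (y * l.s i * c) := (h.ya.symm.mul_right (l.sa i).symm).mul_right (l.zx 7).symm
      rw [k (c * l.a) (by rw [← mul_left_inj c, e, cj_of_comm zz (l.zx 7)]), ← mul_assoc _ c,
        ca.mul_mul_mul_comm, sq, l.x2, mul_one] at w2
      exact w2

end L8

end Cfsg.Agent.O8
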