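import Mathlib
import Cfsg.Agent.O8.C1

/-!
The opposite root element: normalisation, and the braid relations.
-/

set_option autoImplicit false

namespace Cfsg.Agent.O8

open Cfsg.Agent.Spor Cfsg.Agent.LX Subgroup

variable {G : Type*} [Group G]

theorem can_l {p u v : G} (h : Commute p u) (k : Commute p (u * v)) : Commute p v := by
  simpa using h.inv_right.mul_right k

theorem can_r {p u v : G} (h : Commute p v) (k : Commute p (u * v)) : Commute p u := by
  simpa using k.mul_right h.inv_right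

theorem cj_two {n m : G} (hn : n * n = 1) (hm : m * m = 1) (g : G) : TT.cj (n * m) g = n * (m * g * m) * n := by
  rw [TT.cj_def, mul_inv_rev, inv_eq_self_of_sq hn, inv_eq_self_of_sq hm]; group

theorem tri {n m u v t : G} (hn : n * n = 1) (hm : m * m = 1) (nu : n * u * n = v) (nt : n * t * n = t)
    (mu : m * u * m = t) (mv : m * v * m = v) :
    (TT.cj (n * m) u = t ∧ TT.cj (n * m) t = v ∧ TT.cj (n * m) v = u) ∧
      Commute ((n * m) ^ 3) u ∧ Commute ((n * m) ^ 3) v ∧ Commute ((n * m) ^ 3) t := by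
  have e1 : TT.cj (n * m) u = t := by rw [cj_two hn hm, mu, nt]
  have e2 : TT.cj (n * m) t = v := by rw [cj_two hn hm, cj_swap hm mu, nu]
  have e3 : TT.cj (n * m) v = u := by rw [cj_two hn hm, mv, cj_swap hn nu]
  have k : ∀ g, TT.cj ((n * m) ^ 3) g = TT.cj (n * m) (TT.cj (n * m) (TT.cj (n * m) g)) := fun g => by
    rw [TT.cj_cj, TT.cj_cj, pow_three']
  refine ⟨⟨e1, e2, e3⟩, ?_, ?_, ?_⟩ <;> rw [← TT.cj_eq_self_iff, k]
  · rw [e1, e2, e3]
  · rw [e3, e1, e2]
  · rw [e2, e3, e1]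

theorem sup_tw {K : Subgroup G} {s c : Fin 3 → G} (hc : ∀ i, c i ∈ K) :
    K ⊔ closure (Set.range fun i => s i * c i) = K ⊔ closure (Set.range s) := by
  refine le_antisymm (sup_le le_sup_left ?_) (sup_le le_sup_left ?_) <;> rw [closure_le] <;> rintro _ ⟨i, rfl⟩
  · exact mul_mem (mem_sup_right (subset_closure ⟨i, rfl⟩)) (mem_sup_left (hc i))
  · exact (mul_mem_cancel_right (mem_sup_left (hc i))).1 (mem_sup_right (subset_closure ⟨i, rfl⟩))

namespace L8

variable {z : G}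

theorem TT_tw (l : L8 z) {c : Fin 3 → G} (hc : ∀ i, c i = 1 ∨ c i = z) : TT z (fun i => l.s i * c i) = TT z l.s :=
  sup_tw fun i => (hc i).elim (· ▸ one_mem _) (· ▸ l.big.z_mem)

theorem CC_tw (l : L8 z) {c : Fin 3 → G} (hc : ∀ i, c i = 1 ∨ c i = z) :
    CC z (fun i => l.s i * c i) (fun i => l.m i * c i) = CC z l.s l.m := by
  rw [CC, l.TT_tw hc]
  exact sup_tw fun i => (hc i).elim (· ▸ one_mem _) (· ▸ l.Q_le_T l.big.z_mem)

theorem u_comm (l : L8 z) {w : G} (wz : Commute z w) (S T : Fin 8) (h : Commute w (l.x T)) :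
    Commute (TT.cj w (l.x S) * l.x S) (l.x T) := by
  by_cases c : Commute (l.x S) (l.x T)
  · exact ((TT.commute_cj_left_of h).2 c).mul_left c
  · exact l.big.es.aes.comm_mul_of_ne (l.big.cj_mem wz (l.x_mem S)) (l.x_mem S) (l.x_mem T)
      (fun k => c ((TT.commute_cj_left_of h).1 k)) c

theorem cenA0 (l : L8 z) {g : G} (hg : g ∈ QQ z) (h : ∀ S, S ≠ 0 → Commute g (l.x S)) :
    ∃ e d, (e = 1 ∨ e = z) ∧ (d = 1 ∨ d = l.a) ∧ g = e * d := by
  obtain ⟨d, hd, e⟩ := adj l.big.es.aes hg (l.x_mem 7) (l.x_mem 0) fun k => l.a0_n k.symm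
  refine ⟨g * d, d, l.cenQ (mul_mem hg (hd.elim (· ▸ one_mem _) (· ▸ l.x_mem 7))) fun S => ?_, hd, ?_⟩
  · by_cases n : S = 0
    · rwa [n]
    · exact (h S n).mul_left (hd.elim (· ▸ Commute.one_left _) (· ▸ l.xc (by revert S; decide)))
  · rcases hd with rfl | rfl
    · simp
    · rw [mul_assoc, l.x2, mul_one]

theorem cenE (l : L8 z) (i : Fin 3) {g : G} (hg : g ∈ QQ z) (h : ∀ S, S ≠ 0 → S ≠ fl i 0 → Commute g (l.x S)) :
    ∃ e d c, (e = 1 ∨ e = z) ∧ (d = 1 ∨ d = l.a) ∧ (c = 1 ∨ c = l.hi i) ∧ g = e * d * c := by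
  obtain ⟨c, hc, e⟩ := adj l.big.es.aes hg (l.x_mem (fl i 7)) (l.x_mem (fl i 0)) fun k => l.lohi_n i k.symm
  have k : ∀ S : Fin 8, S ≠ fl i 0 → (fl i 7).val + S.val ≠ 7 := by clear * -; revert i; decide
  obtain ⟨e, d, he, hd, e'⟩ := l.cenA0 (mul_mem hg (hc.elim (· ▸ one_mem _) (· ▸ l.x_mem _))) fun S n => by
    by_cases n' : S = fl i 0
    · rwa [n']
    · exact (h S n n').mul_left (hc.elim (· ▸ Commute.one_left _) (· ▸ l.xc (k S n')))
  refine ⟨e, d, c, he, hd, hc, ?_⟩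
  rw [← e']
  rcases hc with rfl | rfl
  · simp
  · rw [mul_assoc, l.x2, mul_one]

theorem mem_T (l : L8 z) {i j k : Fin 3} (h1 : i ≠ j) (h2 : i ≠ k) (h3 : j ≠ k) {g : G} (hg : g ∈ TT z l.s) :
    ∃ q ∈ QQ z, ∃ u v t, (u = 1 ∨ u = l.s i) ∧ (v = 1 ∨ v = l.s j) ∧ (t = 1 ∨ t = l.s k) ∧ g = q * (u * v * t) := by
  have nn : closure (Set.range l.s) ≤ normalizer (QQ z : Set G) := by
    rw [closure_le]; rintro _ ⟨i, rfl⟩; exact l.big.lg.mem_normalizer (l.sz i)
  obtain ⟨q, hq, r, hr, rfl⟩ := (Set.ext_iff.1 (coe_mul_of_right_le_normalizer_left _ _ nn) g).1 hg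
  refine ⟨q, hq, ?_⟩
  suffices ∃ u v t, (u = 1 ∨ u = l.s i) ∧ (v = 1 ∨ v = l.s j) ∧ (t = 1 ∨ t = l.s k) ∧ r = u * v * t by
    obtain ⟨u, v, t, a, b, c, e⟩ := this
    exact ⟨u, v, t, a, b, c, by rw [e]⟩
  have st : ∀ p r, (∃ u v t, (u = 1 ∨ u = l.s i) ∧ (v = 1 ∨ v = l.s j) ∧ (t = 1 ∨ t = l.s k) ∧ r = u * v * t) →
      ∃ u v t, (u = 1 ∨ u = l.s i) ∧ (v = 1 ∨ v = l.s j) ∧ (t = 1 ∨ t = l.s k) ∧ l.s p * r = u * v * t := by
    rintro p _ ⟨u, v, t, a, b, c, rfl⟩
    have f : ∀ p u, (u = 1 ∨ u = l.s p) → (l.s p * u = 1 ∨ l.s p * u = l.s p) := fun p u h =>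
      h.elim (fun e => Or.inr (by rw [e, mul_one])) fun e => Or.inl (by rw [e, l.s2])
    have f' : ∀ p p' u, (u = 1 ∨ u = l.s p') → Commute (l.s p) u := fun p p' u h =>
      h.elim (· ▸ Commute.one_right _) (· ▸ l.ss p p')
    obtain rfl | rfl | rfl : p = i ∨ p = j ∨ p = k := by clear * - h1 h2 h3; revert i j k p; decide
    · exact ⟨_, v, t, f _ u a, b, c, by group⟩
    · exact ⟨u, _, t, a, f _ v b, c, by rw [← mul_assoc, ← mul_assoc, (f' p i u a).eq, mul_assoc u]⟩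
    · exact ⟨u, v, _, a, b, f _ t c, by
        rw [← mul_assoc, ((f' p i u a).mul_right (f' p j v b)).eq, mul_assoc]⟩
  clear hg
  induction hr using closure_induction_left with
  | one => exact ⟨1, 1, 1, Or.inl rfl, Or.inl rfl, Or.inl rfl, by simp⟩
  | mul_left x hx r _ e => obtain ⟨p, rfl⟩ := hx; exact st p r e
  | inv_mul_cancel x hx r _ e =>
    obtain ⟨p, rfl⟩ := hx
    rw [inv_eq_self_of_sq (l.s2 p)]
    exact st p r e

theorem mem_Q_of_T (l : L8 z) {i j k : Fin 3} (h1 : i ≠ j) (h2 : i ≠ k) (h3 : j ≠ k) {g : G} (hg : g ∈ TT z l.s)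
    (cj : Commute g (l.lo j)) (ck : Commute g (l.lo k)) : g ∈ QQ z := by
  obtain ⟨q, hq, u, v, t, hu, hv, ht, rfl⟩ := l.mem_T h1 h2 h3 hg
  have key : ∀ S T, Commute (q * (u * v * t)) (l.x S) → Commute (l.x T) (l.x S) →
      Commute (l.x T) (TT.cj (u * v * t) (l.x S)) := fun S T h c => by
    have : TT.cj (u * v * t) (l.x S) = TT.cj q⁻¹ (l.x S) := by
      rw [← TT.cj_eq_iff, TT.cj_cj, TT.cj_of_commute h]
    rw [this]
    rcases l.big.es.aes.conj_eq (inv_mem hq) (l.x_mem S) with e | e <;> rw [TT.cj_def, e]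
    · exact c
    · exact (l.zx T).symm.mul_right c
  have cs : ∀ p g, TT.cj (l.s p) g = l.s p * g * l.s p := fun p g => by
    rw [TT.cj_def, inv_eq_self_of_sq (l.s2 p)]
  have vj : TT.cj v (l.lo j) = l.lo j := TT.cj_of_commute (hv.elim (· ▸ Commute.one_left _) (· ▸ l.slo j))
  have vi : TT.cj v (l.hi i) = l.hi i := TT.cj_of_commute (hv.elim (· ▸ Commute.one_left _) (· ▸ l.shi h1.symm))
  have a1 := key _ _ cj (l.lolo i j)
  have a2 := key _ _ cj (l.lolo k j)
  have a3 := key _ _ ck (l.lolo i k)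
  simp only [← TT.cj_cj] at a1 a2 a3
  rcases hu with rfl | rfl <;> rcases ht with rfl | rfl
  · rcases hv with rfl | rfl
    · simpa using hq
    · rw [TT.cj_one, TT.cj_one, cs, l.slo' h3 h1.symm h2.symm] at a3
      exact absurd (can_l (l.lolo i k) a3) (l.lohi_n i)
  · rw [TT.cj_one, cs, l.slo' h3.symm h2.symm h1.symm, TT.cj_mul, vj, vi] at a1
    exact absurd (can_l (l.lolo i j) a1) (l.lohi_n i)
  · rw [TT.cj_one, vj, cs, l.slo' h1 h2 h3] at a2
    exact absurd (can_l (l.lolo k j) a2) (l.lohi_n k)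
  · rw [cs k, l.slo' h3.symm h2.symm h1.symm, TT.cj_mul, vj, vi, TT.cj_mul, cs, cs, l.slo' h1 h2 h3, l.shi'] at a2
    exact absurd (can_l (l.lolo k j) (can_r ((l.lohi h2.symm).mul_right (l.loa k)) a2)) (l.lohi_n k)

variable [Finite G]

/-- Multiply `s i` and `m i` by powers of `z`. -/
def tw (l : L8 z) (c : Fin 3 → G) (hc : ∀ i, c i = 1 ∨ c i = z) : L8 z :=
  have cc : ∀ i g, Commute z g → Commute (c i) g := fun i g h => (hc i).elim (· ▸ Commute.one_left _) (· ▸ h)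
  have zc : ∀ i, Commute z (c i) := fun i => (cc i z (Commute.refl z)).symm
  have c2 : ∀ i, c i * c i = 1 := fun i => (hc i).elim (fun e => by rw [e, mul_one]) fun e => by rw [e, l.big.sq]
  have pr : ∀ i u v, Commute z v → u * c i * (v * c i) = u * v := fun i u v h => by
    rw [mul_assoc, ← mul_assoc (c i), cj_of_comm (c2 i) (cc i v h)]
  have cm : ∀ i j u v, Commute z u → Commute z v → Commute u v → Commute (u * c i) (v * c j) :=
    fun i j u v h1 h2 h => (h.mul_right (cc j u h1).symm).mul_left ((cc i v h2).mul_right (cc i _ (zc j)))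
  have cx : ∀ i u S, Commute z u → u * c i * l.x S * (u * c i) = u * l.x S * u := fun i u S h => by
    rw [mul_assoc u, (cc i _ (l.zx S)).eq, ← mul_assoc u, pr i _ u h]
  { x := l.x, s := fun i => l.s i * c i, m := fun i => l.m i * c i, big := l.big, conj := l.conj, gen := l.gen
    x2 := l.x2, xx := l.xx
    sz := fun i => (l.sz i).mul_right (zc i)
    mz := fun i => (l.mz i).mul_right (zc i)
    s2 := fun i => (pr i _ _ (l.sz i)).trans (l.s2 i)
    m2 := fun i => (pr i _ _ (l.mz i)).trans (l.m2 i)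
    sm3 := fun i => by rw [pr i _ _ (l.mz i), l.sm3]
    ss := fun i j => cm i j _ _ (l.sz i) (l.sz j) (l.ss i j)
    sm := fun i j h => cm i j _ _ (l.sz i) (l.mz j) (l.sm i j h)
    mm := fun i j => cm i j _ _ (l.mz i) (l.mz j) (l.mm i j)
    mx := fun i S => (cx i _ S (l.mz i)).trans (l.mx i S)
    sx := fun i S => (cx i _ S (l.sz i)).trans (l.sx i S)
    sQ := fun i => mul_mem (l.sQ i) ((hc i).elim (· ▸ one_mem _) (· ▸ l.zA))
    xQ := l.xQ
    syl := by rw [l.TT_tw hc]; exact l.syl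
    nrm := by rw [l.CC_tw hc]; exact l.nrm
    fus := by rw [l.CC_tw hc]; exact l.fus }

variable {l : L8 z} {y : G}

theorem Pre.step (h : l.Pre y) (i : Fin 3) : ∃ (l' : L8 z) (y' : G), l'.Pre y' ∧ CC z l'.s l'.m = CC z l.s l.m ∧
    l'.lo i * y' * l'.lo i = y' * l'.s i ∧
    ∀ j, j ≠ i → l.lo j * y * l.lo j = y * l.s j → l'.lo j * y' * l'.lo j = y' * l'.s j := by
  rcases h.lo_cases i with e | e
  · exact ⟨l, y, h, rfl, e, fun _ _ k => k⟩
  have hc : ∀ j, (if j = i then z else 1) = 1 ∨ (if j = i then z else 1) = z := fun j => by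
    split_ifs <;> simp
  have es := l.bigA.es.aes
  have sh : l.s i * l.a * l.hi i = l.hi i * l.s i := by
    rw [mul_assoc, ← (l.hia i).eq, ← l.shi', ← mul_assoc, ← mul_assoc, l.s2, one_mul]
  refine ⟨l.tw _ hc, y * l.hi i, ⟨mul_mem h.yQ (l.xQ i), ?_, ?_, fun j => ?_, fun j => ?_⟩, l.CC_tw hc, ?_,
    fun j n k => ?_⟩
  · rw [(h.yx i).symm.mul_mul_mul_comm, h.y2, l.x2, mul_one]
  · change y * l.hi i * z * (y * l.hi i) = z * l.a
    rw [← h.yz, (h.yx i).eq]
    calc l.hi i * y * z * (l.hi i * y) = l.hi i * (y * z) * l.hi i * y := by group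
      _ = _ := by rw [cj_of_comm (l.x2 _) ((h.yx i).symm.mul_right (l.zx _).symm)]
  · change Commute (y * l.hi i) (l.s j * if j = i then z else 1)
    split_ifs with n
    · subst n
      exact Commute.symm (es.comm_mul_of_ne (l.sQ j) l.zA (mul_mem h.yQ (l.xQ j))
        (fun k => l.shi_n j (can_l (h.ys j).symm k)) fun k => h.yz_n (can_r (l.zx _) k).symm)
    · rw [mul_one]
      exact (h.ys j).mul_left (l.shi n).symm
  · exact (h.yx j).mul_left (l.hihi i j)
  · change l.lo i * (y * l.hi i) * l.lo i = y * l.hi i * (l.s i * if i = i then z else 1)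
    rw [cj_mul2 (l.x2 _), e, l.lohi', if_pos rfl, mul_assoc y, mul_assoc y, ← mul_assoc _ (l.hi i), sh]
    group
  · change l.lo j * (y * l.hi i) * l.lo j = y * l.hi i * (l.s j * if j = i then z else 1)
    rw [cj_mul2 (l.x2 _), k, cj_of_comm (l.x2 _) (l.lohi n), if_neg n, mul_one, mul_assoc, (l.shi n).eq, mul_assoc]

theorem exists_good (l : L8 z) : ∃ (l' : L8 z) (y : G), l'.Pre y ∧ CC z l'.s l'.m = CC z l.s l.m ∧
    ∀ i, y * l'.lo i * y = l'.lo i * l'.s i := by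
  obtain ⟨y, h⟩ := l.exists_pre
  obtain ⟨l0, y0, h0, c0, e0, -⟩ := h.step 0
  obtain ⟨l1, y1, h1, c1, e1, k1⟩ := h0.step 1
  obtain ⟨l2, y2, h2, c2, e2, k2⟩ := h1.step 2
  refine ⟨l2, y2, h2, c2.trans (c1.trans c0), fun i => ?_⟩
  have : l2.lo i * y2 * l2.lo i = y2 * l2.s i := by
    fin_cases i
    exacts [k2 0 (by decide) (k1 0 (by decide) e0), k2 1 (by decide) e1, e2]
  calc y2 * l2.lo i * y2 = y2 * (l2.lo i * y2 * l2.lo i) * l2.lo i := by
        rw [mul_assoc, mul_assoc, mul_assoc, mul_assoc, l2.x2, mul_one]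
    _ = _ := by rw [this, ← mul_assoc, h2.y2, one_mul, (l2.slo i).eq]

omit [Finite G] in
theorem s0' (l : L8 z) (i : Fin 3) : l.x 0 * l.s i * l.x 0 = l.lo i * l.s i := by
  calc l.x 0 * l.s i * l.x 0 = l.x 0 * (l.s i * l.x 0 * l.s i) * l.s i := by
        rw [mul_assoc, mul_assoc, mul_assoc, mul_assoc, l.s2, mul_one]
    _ = _ := by rw [l.s0, ← mul_assoc, l.x2, one_mul]

omit [Finite G] in
theorem Pre.xy (h : l.Pre y) (g : ∀ i, y * l.lo i * y = l.lo i * l.s i) : (l.x 0 * y) ^ 3 = 1 := by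
  have P2 := l.x2 0
  have Pa : l.x 0 * l.a * l.x 0 = z * l.a := by rw [l.a0, (l.zx 7).eq]
  obtain ⟨⟨r1, r2, r3⟩, -, wa, wz⟩ := tri P2 h.y2 (cj_swap P2 Pa) (cj_of_comm P2 (l.zx 0).symm) (cj_swap h.y2 h.yz)
    (cj_of_comm h.y2 h.ya)
  have fix : TT.cj (l.x 0 * y) ((l.x 0 * y) ^ 3) = (l.x 0 * y) ^ 3 := TT.cj_of_commute (Commute.self_pow _ 3)
  have wx : ∀ S, S ≠ 0 → Commute ((l.x 0 * y) ^ 3) (l.x S) := fun S n => by
    obtain rfl | ⟨i, rfl | rfl⟩ : S = 7 ∨ ∃ i, S = fl i 0 ∨ S = fl i 7 := by clear * - n; revert S; decide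
    · exact wa
    · exact (tri P2 h.y2 (cj_swap P2 (l.s0' i)) (cj_of_comm P2 (l.lo0 i)) (cj_swap h.y2 (g i))
        (cj_of_comm h.y2 (h.ys i))).2.2.2
    · exact ((l.hi0 i).mul_left (h.yx i)).pow_left 3
  generalize (l.x 0 * y) ^ 3 = w at *
  have wQ : w ∈ QQ z := l.mem_Q wz.symm fun S => by
    by_cases n : S = 0
    · subst n
      obtain ⟨e, d, he, hd, k⟩ := l.cenA0 (mul_mem (l.big.cj_mem wz.symm (l.x_mem 0)) (l.x_mem 0))
        fun T n => l.u_comm wz.symm 0 T (wx T n)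
      have k' : TT.cj w (l.x 0) = e * d * l.x 0 := by rw [← k, mul_assoc, P2, mul_one]
      rcases hd with rfl | rfl
      · rw [mul_one] at k'
        exact he.imp (fun c => by rw [k', c, one_mul]) fun c => by rw [k', c]
      · exfalso
        have sq : TT.cj w (l.x 0) * TT.cj w (l.x 0) = 1 := by rw [← TT.cj_mul, P2, TT.cj_one_right]
        have ec : Commute (l.a * l.x 0) e :=
          he.elim (· ▸ Commute.one_right _) (· ▸ ((l.zx 7).mul_right (l.zx 0)).symm)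
        have e2 : e * e = 1 := he.elim (fun c => by rw [c, mul_one]) fun c => by rw [c, l.big.sq]
        rw [k', mul_assoc e, ec.mul_mul_mul_comm, e2, one_mul, mul_assoc, ← mul_assoc (l.x 0), l.a0, ← mul_assoc,
          l.x2, one_mul] at sq
        exact l.big.ne_one sq
    · exact Or.inl (TT.cj_of_commute (wx S n))
  obtain ⟨e, d, rfl | rfl, rfl | rfl, rfl⟩ := l.cenA0 wQ wx
  · exact mul_one 1
  · rw [one_mul, r3, mul_eq_right] at fix
    exact absurd fix l.big.ne_one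
  · rw [mul_one, r2] at fix
    exact absurd fix.symm l.z_ne_a
  · rw [r1, left_eq_mul] at fix
    exact absurd fix l.bigA.ne_one

theorem Pre.braid (h : l.Pre y) (g : ∀ i, y * l.lo i * y = l.lo i * l.s i) (i : Fin 3) :
    (l.x 0 * y * l.x 0 * l.m i) ^ 3 = 1 := by
  have P2 := l.x2 0
  have m2 := l.m2 i
  have zz := l.big.sq
  have xy : l.x 0 * y * l.x 0 * y * l.x 0 * y = 1 := by
    rw [← h.xy g]; simp only [pow_succ, pow_zero, one_mul, mul_assoc]
  obtain ⟨n, hn⟩ : ∃ n, l.x 0 * y * l.x 0 = n := ⟨_, rfl⟩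
  have nc : ∀ f, n * f * n = l.x 0 * (y * (l.x 0 * f * l.x 0) * y) * l.x 0 := fun f => by rw [← hn]; group
  have n2 : n * n = 1 := by rw [← hn, ← cj_mul2 P2, h.y2, mul_one, P2]
  have hn' : y * l.x 0 * y = n := by
    rw [← mul_right_inj n, n2, ← xy, ← hn]; group
  have nP : n * l.x 0 * n = y := by
    rw [nc, P2, one_mul, hn', ← hn, cj_swap P2 rfl]
  have nz : n * z * n = l.a := by
    rw [nc, cj_of_comm P2 (l.zx 0).symm, h.yz, (l.zx 7).eq, cj_swap P2 l.a0]
  have nlo : ∀ j, n * l.lo j * n = l.s j := fun j => by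
    rw [nc, cj_of_comm P2 (l.lo0 j), g, cj_swap P2 (l.s0' j)]
  have nhi : ∀ j, n * l.hi j * n = l.hi j := fun j => by
    rw [nc, cj_of_comm P2 (l.hi0 j), cj_of_comm h.y2 (h.yx j), cj_of_comm P2 (l.hi0 j)]
  obtain ⟨⟨r1, r2, r3⟩, wa, wz, wi⟩ := tri n2 m2 (cj_swap n2 nz) (nhi i) (l.mx i 7) (cj_of_comm m2 (l.mz i).symm)
  have t2 : ∀ j k, i ≠ j → i ≠ k → j ≠ k → Commute ((n * l.m i) ^ 3) (l.lo j) ∧ Commute ((n * l.m i) ^ 3) (l.hi k) :=
    fun j k h1 h2 h3 => by
      have := (tri n2 m2 (nlo j) (nhi k) ((l.mx i _).trans (by congr 1; clear * - h1 h2 h3; revert i j k; decide))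
        (cj_of_comm m2 (l.sm j i h1.symm).symm)).2
      exact ⟨this.1, this.2.2⟩
  obtain ⟨j, k, h1, h2, h3⟩ : ∃ j k, i ≠ j ∧ i ≠ k ∧ j ≠ k := by clear * -; revert i; decide
  have wx : ∀ S, S ≠ 0 → S ≠ fl i 0 → Commute ((n * l.m i) ^ 3) (l.x S) := fun S a b => by
    obtain rfl | rfl | rfl | rfl | rfl | rfl : S = 7 ∨ S = fl i 7 ∨ S = fl j 0 ∨ S = fl k 7 ∨ S = fl k 0 ∨ S = fl j 7 := by
      clear * - h1 h2 h3 a b; revert i j k S; decide
    exacts [wa, wi, (t2 j k h1 h2 h3).1, (t2 j k h1 h2 h3).2, (t2 k j h2 h1 h3.symm).1, (t2 k j h2 h1 h3.symm).2]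
  have fix : TT.cj (n * l.m i) ((n * l.m i) ^ 3) = (n * l.m i) ^ 3 := TT.cj_of_commute (Commute.self_pow _ 3)
  rw [hn]
  obtain ⟨w, hw⟩ : ∃ w, (n * l.m i) ^ 3 = w := ⟨_, rfl⟩
  rw [hw] at wa wz wi wx fix ⊢
  have EE : ∀ e d c : G, (e = 1 ∨ e = z) → (d = 1 ∨ d = l.a) → (c = 1 ∨ c = l.hi i) →
      e * d * c * (e * d * c) = 1 ∧ Commute w (e * d * c) := fun e d c he hd hc => by
    have ed : Commute e d := he.elim (· ▸ Commute.one_left _) (· ▸ hd.elim (· ▸ Commute.one_right _) (· ▸ l.zx 7))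
    have ec : Commute e c := he.elim (· ▸ Commute.one_left _) (· ▸ hc.elim (· ▸ Commute.one_right _) (· ▸ l.zx _))
    have dc : Commute d c :=
      hd.elim (· ▸ Commute.one_left _) (· ▸ hc.elim (· ▸ Commute.one_right _) (· ▸ (l.hia i).symm))
    have e2 : e * e = 1 := he.elim (fun c => by rw [c, mul_one]) fun c => by rw [c, zz]
    have d2 : d * d = 1 := hd.elim (fun c => by rw [c, mul_one]) fun c => by rw [c, l.x2]
    have c2 : c * c = 1 := hc.elim (fun c => by rw [c, mul_one]) fun c => by rw [c, l.x2]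
    refine ⟨by rw [(ec.mul_left dc).symm.mul_mul_mul_comm, ed.symm.mul_mul_mul_comm, e2, d2, c2]; simp, ?_⟩
    exact ((he.elim (· ▸ Commute.one_right _) (· ▸ wz) : Commute w e).mul_right
      (hd.elim (· ▸ Commute.one_right _) (· ▸ wa))).mul_right (hc.elim (· ▸ Commute.one_right _) (· ▸ wi))
  have w2Q : w * w ∈ QQ z := l.mem_Q (wz.symm.mul_right wz.symm) fun S => Or.inl (by
    obtain ⟨e, d, c, he, hd, hc, k⟩ := l.cenE i (mul_mem (l.big.cj_mem wz.symm (l.x_mem S)) (l.x_mem S))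
      fun T a b => l.u_comm wz.symm S T (wx T a b)
    have k' : TT.cj w (l.x S) = e * d * c * l.x S := by rw [← k, mul_assoc, l.x2, mul_one]
    rw [← TT.cj_cj, k', TT.cj_mul, k', TT.cj_of_commute (EE e d c he hd hc).2, ← mul_assoc, (EE e d c he hd hc).1,
      one_mul])
  have wN : w ∈ normalizer (TT z l.s : Set G) := mem_normalizer_fintype fun t ht => by
    have : TT z l.s ≤ (TT z l.s).comap (MulAut.conj w).toMonoidHom := sup_le
      (fun q hq => l.Q_le_T (l.big.cj_mem wz.symm hq)) (by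
        rw [closure_le]
        rintro _ ⟨p, rfl⟩
        exact l.L_le_T (l.bigA.cj_mem wa.symm (l.sQ p)) ((TT.commute_cj_left_of wz).2 (l.sz p).symm))
    exact this ht
  have wp : IsPGroup 2 (zpowers w) := by
    have : orderOf w ∣ 2 ^ 3 := orderOf_dvd_of_pow_eq_one (by
      rw [← l.big.es.aes.pow_four w2Q, ← pow_two, ← pow_mul]; rfl)
    obtain ⟨k, -, e⟩ := (Nat.dvd_prime_pow Nat.prime_two).1 this
    exact IsPGroup.of_card (by rw [Nat.card_zpowers, e])
  have wT : w ∈ TT z l.s := by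
    rw [← l.syl.eq_of_le (l.syl.isPGroup.to_sup_of_normal_left' wp (zpowers_le.2 wN))
      (sup_le l.syl.le (zpowers_le.2 (mem_centralizer_singleton.2 wz.symm))) le_sup_left]
    exact mem_sup_right (mem_zpowers w)
  have nj : ∀ j, i ≠ j → fl j 0 ≠ 0 ∧ fl j 0 ≠ fl i 0 := by clear * -; revert i; decide
  obtain ⟨e, d, c, he, hd, hc, hw'⟩ := l.cenE i (l.mem_Q_of_T h1 h2 h3 wT (wx _ (nj j h1).1 (nj j h1).2)
    (wx _ (nj k h2).1 (nj k h2).2)) wx
  have w2 : w * w = 1 := hw' ▸ (EE e d c he hd hc).1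
  have Pz := (l.zx 0).symm
  have iz := (l.zx (fl i 0)).symm
  rw [hw', TT.cj_mul, TT.cj_mul] at fix
  rcases he with rfl | rfl <;> rcases hd with rfl | rfl <;> rcases hc with rfl | rfl <;>
    simp only [TT.cj_one_right, r1, r2, r3, one_mul, mul_one] at fix hw'
  · exact hw'
  · exact absurd (fix ▸ iz) (l.lohi_n i)
  · exact absurd (fix ▸ l.hi0 i) l.a0_n
  · exact absurd (can_r (l.hi0 i) (fix ▸ (l.hi0 i).mul_right Pz)) l.a0_n
  · exact absurd fix.symm l.z_ne_a
  · exact absurd (can_r Pz (fix ▸ Pz.mul_right (l.hi0 i))) l.a0_n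
  · exact absurd (can_l (l.loa i) (fix ▸ iz.mul_right (l.loa i))) (l.lohi_n i)
  exfalso
  obtain ⟨m, hm⟩ : ∃ m, l.m i = m := ⟨_, rfl⟩
  have mP : m * l.x 0 * m = l.lo i := hm ▸ l.mx i 0
  have sm : l.s i * (m * l.s i * m) * l.s i = m := by
    rw [← mul_left_inj m, ← hm, m2, ← l.sm3 i]; simp only [pow_succ, pow_zero, one_mul, mul_assoc]
  rw [hm] at hw m2
  have u2 : m * n * m * (m * n * m) = 1 := by rw [← cj_mul2 m2, n2, mul_one, m2]
  have hw2 : m * n * m * (n * m * n) = w := by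
    rw [← mul_right_inj w, w2, ← hw]
    calc (n * m) ^ 3 * (m * n * m * (n * m * n))
        = n * (m * (n * (m * (n * (m * m) * n) * m) * n) * m) * n := by
          simp only [pow_succ, pow_zero, one_mul, mul_assoc]
      _ = 1 := by simp only [m2, n2, mul_one]
  have vs : n * m * n * l.s i * (n * m * n) = y := by
    calc n * m * n * l.s i * (n * m * n) = n * (m * (n * l.s i * n) * m) * n := by group
      _ = y := by rw [cj_swap n2 (nlo i), cj_swap m2 mP, nP]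
  have v2 : n * m * n * (n * m * n) = 1 := by rw [← cj_mul2 n2, m2, mul_one, n2]
  have hu : m * n * m = w * (n * m * n) := by rw [← hw2, mul_assoc (m * n * m), v2, mul_one]
  have hu' : m * n * m = n * m * n * w := by
    rw [← hw, ← mul_right_inj (n * m * n), ← mul_assoc (n * m * n) (n * m * n), v2, one_mul]
    simp only [pow_succ, pow_zero, one_mul, mul_assoc]
  have us : m * n * m * l.s i * (m * n * m) = y * l.a := by
    have zy : e * y * e = y * l.a := by
      calc e * y * e = y * (y * e * y) * e := by rw [← mul_assoc, ← mul_assoc, h.y2, one_mul]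
        _ = _ := by rw [h.yz, mul_assoc, cj_of_comm zz (l.zx 7)]
    have wy : w * y = y * l.a * w := by
      have c : Commute (l.a * l.hi i) y := h.ya.symm.mul_left (h.yx i).symm
      rw [← zy, hw', mul_assoc e, mul_assoc e, c.eq, mul_assoc _ e, ← mul_assoc e e, zz, one_mul, mul_assoc]
    calc m * n * m * l.s i * (m * n * m) = w * (n * m * n * l.s i * (n * m * n)) * w := by
          conv_lhs => rw [hu', ← mul_assoc, ← hu', hu]
          group
      _ = _ := by rw [vs, wy, mul_assoc, w2, mul_one]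
  have ut : m * n * m * (m * l.s i * m) * (m * n * m) = l.x 0 := by
    rw [← cj_mul2 m2, ← cj_mul2 m2, cj_swap n2 (nlo i), cj_swap m2 mP]
  have um : m * n * m * m * (m * n * m) = n * (e * l.a) := by
    have aP : l.a * l.x 0 * l.a = l.x 0 * e := l.xcj rfl
    calc m * n * m * m * (m * n * m) = m * n * m * (l.s i * (m * l.s i * m) * l.s i) * (m * n * m) := by rw [sm]
      _ = y * l.a * l.x 0 * (l.a * y) := by rw [cj_mul2 u2, cj_mul2 u2, us, ut, h.ya.eq]
      _ = y * (l.a * l.x 0 * l.a) * y := by group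
      _ = _ := by rw [aP, cj_mul2 h.y2, hn', h.yz]
  have um' : m * n * m * m * (m * n * m) = w * n := by
    rw [← hw2, mul_assoc (m * n) m m, m2, mul_one]
    calc m * n * (m * n * m) = m * n * m * (n * m * (n * n)) := by rw [n2]; group
      _ = _ := by group
  have fin : w = l.a * e := by
    rw [← mul_left_inj n, ← um', um, ← mul_left_inj n, mul_assoc _ n n, n2, mul_one, cj_mul2 n2, nz, cj_swap n2 nz]
  rw [hw', ← (l.zx 7).eq, mul_eq_left] at fin
  exact l.lohi_n i (fin ▸ Commute.one_right _)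

end L8

theorem L8.exists_Y8 [Finite G] {z : G} (l : L8 z) : ∃ l' : Y8 z, CC z l'.s l'.m = CC z l.s l.m := by
  obtain ⟨l', y, h, c, g⟩ := l.exists_good
  refine ⟨{ l' with
    y := y, yQ := h.yQ, y2 := h.y2, yz := h.yz, ys := h.ys, yx := h.yx, yx' := g, xy := h.xy g, braid := h.braid g
    Qa := fun q hq => ?_ }, c⟩
  by_cases e : Commute q z
  · exact mem_sup_left (mem_sup_left (l'.L_le_T hq e))
  · exact (mul_mem_cancel_right (mem_sup_right (mem_zpowers y))).1 (mem_sup_left (mem_sup_left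
      (l'.L_le_T (mul_mem hq h.yQ) (l'.bigA.es.aes.comm_mul_of_ne hq h.yQ l'.zA e h.yz_n))))

end Cfsg.Agent.O8
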