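import Mathlib
import Cfsg.Agent.O8.Defs
import Cfsg.Agent.Chev.StCD3
import Cfsg.Agent.Spor.FL.Lab

/-!
The root elements of `Y8` satisfy the Curtis–Tits relations of type `D₄` over the field with two elements.
-/

set_option autoImplicit false

namespace Cfsg.Agent.O8

open Cfsg.Agent.Spor Cfsg.Agent.LX Subgroup Cfsg.Agent.Chev Cfsg.Agent.Ch Cfsg.Lie

section Edge

variable {H : Type*} [Group H]

/-- The one-parameter group of an involution. -/
def op (g : H) (t : ZMod 2) : H := g ^ t.val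

theorem op_zero (g : H) : op g 0 = 1 := pow_zero g

theorem op_one (g : H) : op g 1 = g := pow_one g

theorem slRel_of_inv {g : RtA 3 → H} (h2 : ∀ a, g a * g a = 1)
    (hc : ∀ a b : RtA 3, a.1.1 ≠ b.1.2 → a.1.2 ≠ b.1.1 → Commute (g a) (g b))
    (hr : ∀ (a b : RtA 3) (h : a.1.1 ≠ b.1.2), a.1.2 = b.1.1 → g a * g b * g a * g b = g ⟨(a.1.1, b.1.2), h⟩) :
    SLRel fun a t => op (g a) t := by
  refine ⟨fun a t u => ?_, fun a b t u h1 h2 => (hc a b h1 h2).pow_pow _ _, fun a b h t u e => ?_⟩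
  · rcases z2_cases t with rfl | rfl <;> rcases z2_cases u with rfl | rfl
    · simp [op_zero]
    · simp [op_zero]
    · simp [op_zero]
    · rw [op_one, h2, show (1 : ZMod 2) + 1 = 0 from rfl, op_zero]
  · rcases z2_cases t with rfl | rfl <;> rcases z2_cases u with rfl | rfl
    · simp [op_zero]
    · simp [op_zero]
    · simp [op_zero]
    · rw [mul_one, op_one, op_one, op_one, inv_eq_self_of_sq (h2 a), inv_eq_self_of_sq (h2 b), hr a b h e]

theorem cjm {n : H} (hn : n * n = 1) (a b : H) : n * a * n * (n * b * n) = n * (a * b) * n := by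
  calc n * a * n * (n * b * n) = n * a * (n * n) * b * n := by group
    _ = _ := by rw [hn]; group

theorem cjc {n a b a' b' : H} (hn : n * n = 1) (h : Commute a b) (ea : n * a * n = a') (eb : n * b * n = b') :
    Commute a' b' := by
  rw [← ea, ← eb, Commute, SemiconjBy, cjm hn, cjm hn, h.eq]

theorem cjr {n a b c a' b' c' : H} (hn : n * n = 1) (h : a * b * a * b = c) (ea : n * a * n = a')
    (eb : n * b * n = b') (ec : n * c * n = c') : a' * b' * a' * b' = c' := by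
  rw [← ea, ← eb, ← ec, cjm hn, cjm hn, cjm hn, h]

theorem cjs {n a b : H} (hn : n * n = 1) (h : n * a * n = b) : n * b * n = a := by
  rw [← h]
  calc n * (n * a * n) * n = (n * n) * a * (n * n) := by group
    _ = a := by rw [hn]; group

theorem edge_of {P y s m R : H} (hP : P * P = 1) (hy : y * y = 1) (hs : s * s = 1) (hm : m * m = 1)
    (Py : (P * y) ^ 3 = 1) (br : (P * y * P * m) ^ 3 = 1) (sP : s * P * s = P * R) (mP : m * P * m = R)
    (PR : Commute P R) (ys : Commute y s) (sR : Commute s R) (yR : y * R * y = R * s) :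
    Edge (op P) (op y) (op s) (op (m * s * m)) := by
  obtain ⟨n, hn⟩ : ∃ n, n = P * y * P := ⟨_, rfl⟩
  obtain ⟨t, ht⟩ : ∃ t, m * s * m = t := ⟨_, rfl⟩
  obtain ⟨R', hR'⟩ : ∃ t, m * y * m = t := ⟨_, rfl⟩
  rw [← hn] at br
  have n2 : n * n = 1 := by rw [hn, cjm hP, hy, mul_one, hP]
  have R2 : R * R = 1 := by rw [← mP, cjm hm, hP, mul_one, hm]
  have r1 : P * s * P * s = R := by
    calc P * s * P * s = P * (s * P * s) := by group
      _ = R := by rw [sP, ← mul_assoc, hP, one_mul]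
  have nP : n * P * n = y := by
    have : P * y * P * y * P * y = 1 := by rw [← Py]; simp only [pow_succ, pow_zero, one_mul, mul_assoc]
    calc n * P * n = P * y * (P * P) * P * y * P * (y * y) := by rw [hn, hy]; group
      _ = P * y * P * y * P * y * y := by rw [hP]; group
      _ = y := by rw [this, one_mul]
  have ns : n * s * n = R := by
    have e1 : P * s * P = R * s := by rw [← r1, mul_assoc (P * s * P), hs, mul_one]
    have e2 : y * (R * s) * y = R := by
      calc y * (R * s) * y = y * R * y * (y * s * y) := by rw [cjm hy]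
        _ = R := by rw [yR, ys.eq, mul_assoc s, hy, mul_one, mul_assoc, hs, mul_one]
    calc n * s * n = P * (y * (P * s * P) * y) * P := by rw [hn]; group
      _ = R := by rw [e1, e2, PR.eq, mul_assoc, hP, mul_one]
  have nt : n * t * n = R' := by
    have e : n * m * n = m * n * m := by
      have : n * m * n * (m * n * m) = 1 := by rw [← br]; simp only [pow_succ, pow_zero, one_mul, mul_assoc]
      rw [eq_inv_of_mul_eq_one_left this, mul_inv_rev, mul_inv_rev, inv_eq_self_of_sq hm, inv_eq_self_of_sq n2,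
        mul_assoc]
    calc n * t * n = n * m * n * (n * s * n) * (n * m * n) := by rw [cjm n2, cjm n2, ht]
      _ = m * (n * (m * R * m) * n) * m := by rw [e, ns]; group
      _ = R' := by rw [cjs hm mP, nP, hR']
  have c1 : Commute R' t := cjc hm ys hR' ht
  have c2 : Commute P t := cjc hm sR.symm (cjs hm mP) ht
  have c3 : Commute y R' := cjc n2 c2 nP nt
  have r2 : R * t * R * t = P := cjr hm r1 mP ht (cjs hm mP)
  have r3 : y * R * y * R = s := cjr n2 r1 nP ns (cjs n2 ns)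
  have r4 : s * R' * s * R' = y := cjr n2 r2 (cjs n2 ns) nt nP
  have r5 : R' * P * R' * P = t := cjr hm r3 hR' (cjs hm mP) ht
  have r6 : t * y * t * y = R' := cjr hm r4 ht (cjs hm hR') hR'
  have t2 : t * t = 1 := by rw [← ht, cjm hm, hs, mul_one, hm]
  have R'2 : R' * R' = 1 := by rw [← hR', cjm hm, hy, mul_one, hm]
  let g : RtA 3 → H := fun a => !![1, P, R; y, 1, s; R', t, 1] a.1.1 a.1.2
  obtain ⟨Φ, hΦ⟩ := slRel_exists_hom (K := ZMod 2) le_rfl (slRel_of_inv (g := g) (by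
      rintro ⟨⟨i, j⟩, h⟩
      fin_cases i <;> fin_cases j <;> first | exact absurd rfl h | assumption) (by
      rintro ⟨⟨i, j⟩, h⟩ ⟨⟨k, l⟩, h'⟩ h1 h2
      fin_cases i <;> fin_cases j <;> fin_cases k <;> fin_cases l <;>
        first | exact absurd rfl h | exact absurd rfl h' | exact absurd rfl h1 | exact absurd rfl h2 |
          exact Commute.refl _ | assumption | (symm; assumption)) (by
      rintro ⟨⟨i, j⟩, h⟩ ⟨⟨k, l⟩, h'⟩ h1 h2
      obtain rfl : j = k := h2
      fin_cases i <;> fin_cases j <;> fin_cases l <;>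
        first | exact absurd rfl h | exact absurd rfl h' | exact absurd rfl h1 | assumption))
  rw [ht]
  exact ⟨Φ, hΦ r01, hΦ r10, hΦ r12, hΦ r21⟩

/-- A centreless group generated by a Curtis–Tits system of type `D₄` is simple. -/
theorem simple_D4 [Nontrivial H] (hZ : center H = ⊥) (X Y : Fin 4 → ZMod 2 → H)
    (hE : ∀ i k, i ≠ k → (i = 1 ∨ k = 1) → Edge (X i) (Y i) (X k) (Y k))
    (L : Fin 4 → Subgroup H) (hX : ∀ i t, X i t ∈ L i) (hY : ∀ i t, Y i t ∈ L i)
    (hc : ∀ i k, i ≠ k → ¬ (i = 1 ∨ k = 1) → ∀ a ∈ L i, ∀ b ∈ L k, a * b = b * a)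
    (hgen : ∀ K : Subgroup H, (∀ i t, X i t ∈ K ∧ Y i t ∈ K) → K = ⊤) : IsSimpleGroup H := by
  have := (S1054.result (F := ZMod 2) chevD4 (by simp)).1
  have h₀ := chevD4.isModel_XG (ZMod 2)
  have a1 : ∀ i k : chevD4.Nd, chevD4.cartan i (chevD4.simple k) = -1 → i ≠ k ∧ (i.val = 1 ∨ k.val = 1) := by
    decide +kernel
  have a2 : ∀ i k : chevD4.Nd, chevD4.cartan i (chevD4.simple k) = 0 → i ≠ k ∧ ¬ (i.val = 1 ∨ k.val = 1) := by
    decide +kernel
  have a3 : ∀ i : chevD4.Nd, ∃ k : chevD4.Nd, chevD4.cartan i (chevD4.simple k) = -1 := by decide +kernel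
  have a4 : ∀ i k : chevD4.Nd, chevD4.cartan i (chevD4.simple k) = -1 →
      ∃ j : chevD4.Nd, ¬ (3 : ℤ) ∣ chevD4.cartan i (chevD4.simple j) + 2 * chevD4.cartan k (chevD4.simple j) := by
    decide +kernel
  obtain ⟨y, h1, h2⟩ := h₀.exists_isSt_of_edges slD4 chevD4.std (by simpa only [chevD4.stRoot_A_sr_sr] using a3)
    (fun i k h => by
      rw [chevD4.stRoot_A_sr_sr] at h
      obtain ⟨j, hj⟩ := a4 i k h
      exact ⟨chevD4.stRoot.sr j, by simpa only [chevD4.stRoot_A_sr_sr] using hj⟩) X Y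
    (fun i k h => by
      rw [chevD4.stRoot_A_sr_sr] at h
      exact hE i k (a1 i k h).1 ((a1 i k h).2.imp Fin.ext Fin.ext)) L hX hY
    (fun i k h => by
      rw [chevD4.stRoot_A_sr_sr] at h
      exact hc i k (a2 i k h).1 fun c => (a2 i k h).2 (c.imp (congrArg Fin.val) (congrArg Fin.val)))
  have hg : XS y Set.univ = ⊤ := hgen _ fun i t => by
    rw [← (h1 i).1, ← (h1 i).2]
    exact ⟨x_mem_XS y (Set.mem_univ _) t, x_mem_XS y (Set.mem_univ _) t⟩
  obtain ⟨f, hf⟩ := h₀.exists_surj (chevD4.XS_XG_univ _) h2 hg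
  let e := (QuotientGroup.quotientMulEquivOfEq hZ).trans QuotientGroup.quotientBot
  let f' : chevD4.group (ZMod 2) →* H := e.toMonoidHom.comp f
  have hs : Function.Surjective f' := by
    rw [← MonoidHom.range_eq_top, eq_top_iff, ← hg]
    exact XS_le fun r _ t => ⟨chevD4.XG _ r t, by simp only [f', MonoidHom.comp_apply, hf]; rfl⟩
  exact IsSimpleGroup.isSimpleGroup_of_surjective f' hs

end Edge

variable {G : Type*} [Group G]

namespace Y8

variable {z : G} (l : Y8 z)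

theorem Q_le : QQ z ≤ l.G0 := le_sup_of_le_left (le_sup_of_le_left le_sup_left)

theorem x_mem (S : Fin 8) : l.x S ∈ l.G0 := l.Q_le (l.gen ▸ subset_closure ⟨S, rfl⟩)

theorem s_mem (i : Fin 3) : l.s i ∈ l.G0 :=
  mem_sup_left (mem_sup_left (mem_sup_right (subset_closure ⟨i, rfl⟩)))

theorem m_mem (i : Fin 3) : l.m i ∈ l.G0 := mem_sup_left (mem_sup_right (subset_closure ⟨i, rfl⟩))

theorem y_mem : l.y ∈ l.G0 := mem_sup_right (mem_zpowers _)

theorem center_G0 : center l.G0 = ⊥ := by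
  rw [eq_bot_iff]
  rintro ⟨c, hc⟩ h
  have k : ∀ g ∈ l.G0, Commute c g := fun g hg =>
    congrArg Subtype.val (mem_center_iff.1 h ⟨g, hg⟩).symm
  have hq : c ∈ QQ z := l.big.mem_of_triv (k z (l.Q_le l.big.z_mem)).symm fun q hq =>
    Or.inl (TT.cj_of_commute (k q (l.Q_le hq)))
  rcases l.big.es.center c hq fun q hq => k q (l.Q_le hq) with rfl | rfl
  · exact mem_bot.2 rfl
  · have e := l.yz
    rw [← (k _ l.y_mem).eq, mul_assoc, l.y2, mul_one, left_eq_mul] at e
    exact absurd e (l.big.of_isConj l.conj).ne_one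

theorem G0_le {K : Subgroup G} (h0 : l.x 0 ∈ K) (hy : l.y ∈ K) (hs : ∀ i, l.s i ∈ K)
    (ht : ∀ i, l.m i * l.s i * l.m i ∈ K) : l.G0 ≤ K := by
  have hm : ∀ i, l.m i ∈ K := fun i => by
    have : l.s i * (l.m i * l.s i * l.m i) * l.s i * l.m i = 1 := by
      rw [← l.sm3 i]; simp only [pow_succ, pow_zero, one_mul, mul_assoc]
    rw [← K.inv_mem_iff, ← eq_inv_of_mul_eq_one_left this]
    exact mul_mem (mul_mem (hs i) (ht i)) (hs i)
  have hf : ∀ i S, l.x S ∈ K → l.x (fl i S) ∈ K := fun i S h =>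
    l.mx i S ▸ mul_mem (mul_mem (hm i) h) (hm i)
  have hx : ∀ S, l.x S ∈ K := fun S => by
    fin_cases S
    exacts [h0, hf 0 0 h0, hf 1 0 h0, hf 0 _ (hf 1 0 h0), hf 2 0 h0, hf 0 _ (hf 2 0 h0), hf 1 _ (hf 2 0 h0),
      hf 0 _ (hf 1 _ (hf 2 0 h0))]
  refine sup_le (sup_le (sup_le ?_ ?_) ?_) (zpowers_le.2 hy)
  · rw [← l.gen, closure_le]; rintro _ ⟨S, rfl⟩; exact hx S
  · rw [closure_le]; rintro _ ⟨S, rfl⟩; exact hs S
  · rw [closure_le]; rintro _ ⟨S, rfl⟩; exact hm S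

theorem edge (i : Fin 3) : Edge (op (⟨l.x 0, l.x_mem 0⟩ : l.G0)) (op ⟨l.y, l.y_mem⟩) (op ⟨l.s i, l.s_mem i⟩)
    (op (⟨l.m i, l.m_mem i⟩ * ⟨l.s i, l.s_mem i⟩ * ⟨l.m i, l.m_mem i⟩)) := by
  have b0 : ¬ (0 : Fin 8).val.testBit i.val := by simp
  have b1 : (fl i 0).val.testBit i.val := by revert i; decide
  have b2 : ¬ (0 : Fin 8).val + (fl i 0).val = 7 := by revert i; decide
  refine edge_of (R := ⟨l.x (fl i 0), l.x_mem _⟩) (Subtype.ext (l.x2 0)) (Subtype.ext l.y2) (Subtype.ext (l.s2 i))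
    (Subtype.ext (l.m2 i)) (Subtype.ext l.xy) (Subtype.ext (l.braid i)) (Subtype.ext ?_) (Subtype.ext (l.mx i 0))
    (Subtype.ext ?_) (Subtype.ext (l.ys i)) (Subtype.ext ?_) (Subtype.ext (l.yx' i))
  · exact (l.sx i 0).trans (if_neg b0)
  · exact (l.xx 0 (fl i 0)).trans (by rw [if_neg b2, mul_one]; rfl)
  · have := l.sx i (fl i 0)
    rw [if_pos b1] at this
    change l.s i * l.x (fl i 0) = l.x (fl i 0) * l.s i
    conv_rhs => rw [← this, mul_assoc, l.s2, mul_one]

end Y8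

theorem comm_closure {H : Type*} [Group H] {a b c d : H} (h1 : Commute a c) (h2 : Commute a d) (h3 : Commute b c)
    (h4 : Commute b d) : ∀ u ∈ closure ({a, b} : Set H), ∀ v ∈ closure ({c, d} : Set H), u * v = v * u := by
  intro u hu v hv
  have k : closure ({a, b} : Set H) ≤ centralizer (closure ({c, d} : Set H) : Set H) := by
    rw [closure_le, centralizer_closure]
    rintro _ (rfl | rfl) _ (rfl | rfl)
    exacts [h1.symm, h2.symm, h3.symm, h4.symm]
  exact (k hu v hv).symm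

theorem Y8.iso [Finite G] {z : G} (l : Y8 z) :
    IsSimpleGroup l.G0 ∧ Nonempty (l.G0 ≃* Omega (ZMod 2) (quadFormPlus 4 (ZMod 2))) := by
  let s : Fin 3 → l.G0 := fun i => ⟨l.s i, l.s_mem i⟩
  let m : Fin 3 → l.G0 := fun i => ⟨l.m i, l.m_mem i⟩
  let P : l.G0 := ⟨l.x 0, l.x_mem 0⟩
  let y : l.G0 := ⟨l.y, l.y_mem⟩
  let X : Fin 4 → ZMod 2 → l.G0 := ![op (s 0), op P, op (s 1), op (s 2)]
  let Y : Fin 4 → ZMod 2 → l.G0 := ![op (m 0 * s 0 * m 0), op y, op (m 1 * s 1 * m 1), op (m 2 * s 2 * m 2)]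
  let L : Fin 4 → Subgroup l.G0 := ![closure {s 0, m 0}, ⊤, closure {s 1, m 1}, closure {s 2, m 2}]
  have hs : ∀ i, s i ∈ closure {s i, m i} := fun i => subset_closure (Or.inl rfl)
  have hm : ∀ i, m i ∈ closure {s i, m i} := fun i => subset_closure (Or.inr rfl)
  have hcc : ∀ i j, i ≠ j → ∀ u ∈ closure {s i, m i}, ∀ v ∈ closure {s j, m j}, u * v = v * u := fun i j h =>
    comm_closure (Subtype.ext (l.ss i j)) (Subtype.ext (l.sm i j h)) (Subtype.ext (l.sm j i h.symm).symm)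
      (Subtype.ext (l.mm i j))
  have hE : ∀ i k, i ≠ k → (i = 1 ∨ k = 1) → Edge (X i) (Y i) (X k) (Y k) := by
    rintro i k h (rfl | rfl)
    · fin_cases k
      exacts [l.edge 0, absurd rfl h, l.edge 1, l.edge 2]
    · fin_cases i
      exacts [(l.edge 0).symm, absurd rfl h, (l.edge 1).symm, (l.edge 2).symm]
  have hX : ∀ i t, X i t ∈ L i := fun i t => by
    fin_cases i
    exacts [pow_mem (hs 0) _, trivial, pow_mem (hs 1) _, pow_mem (hs 2) _]
  have hY : ∀ i t, Y i t ∈ L i := fun i t => by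
    have k : ∀ i, op (m i * s i * m i) t ∈ closure {s i, m i} := fun i =>
      pow_mem (mul_mem (mul_mem (hm i) (hs i)) (hm i)) _
    fin_cases i
    exacts [k 0, trivial, k 1, k 2]
  have hc : ∀ i k, i ≠ k → ¬ (i = 1 ∨ k = 1) → ∀ a ∈ L i, ∀ b ∈ L k, a * b = b * a := fun i k h h' => by
    fin_cases i <;> fin_cases k <;>
      first | exact absurd rfl h | exact absurd (Or.inl rfl) h' | exact absurd (Or.inr rfl) h' |
        exact hcc _ _ (by decide)
  have hgen : ∀ K : Subgroup l.G0, (∀ i t, X i t ∈ K ∧ Y i t ∈ K) → K = ⊤ := fun K h => by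
    have k : ∀ g : l.G0, op g 1 ∈ K → g.1 ∈ K.map l.G0.subtype := fun g hg => ⟨g, op_one g ▸ hg, rfl⟩
    have := l.G0_le (K := K.map l.G0.subtype) (k P (h 1 1).1) (k y (h 1 1).2)
      (fun i => by fin_cases i; exacts [k _ (h 0 1).1, k _ (h 2 1).1, k _ (h 3 1).1])
      (fun i => by fin_cases i; exacts [k _ (h 0 1).2, k _ (h 2 1).2, k _ (h 3 1).2])
    rw [eq_top_iff]
    intro g _
    obtain ⟨g', hg', e⟩ := this g.2
    exact (Subtype.ext e : g' = g) ▸ hg'
  have : Nontrivial l.G0 := ⟨⟨⟨z, l.Q_le l.big.z_mem⟩, 1, fun e => l.big.ne_one (congrArg Subtype.val e)⟩⟩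
  have := simple_D4 l.center_G0 X Y hE L hX hY hc hgen
  obtain ⟨f⟩ := ct_typeD (K := ZMod 2) 4 le_rfl (fun i k => i ≠ k ∧ (i = 1 ∨ k = 1)) (by decide)
    (by rw [l.center_G0]; exact bot_ne_top) X Y (fun i k h h' => hE i k h h'.2) L hX hY
    (fun i k h h' => hc i k h fun c => h' ⟨h, c⟩) hgen
  exact ⟨this, ⟨f.trans FL.o8Equiv⟩⟩

end Cfsg.Agent.O8
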